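import Cfsg.Agent.H86.MTwelve.Transport
import Cfsg.Agent.H48.GTwoFusion.Transfer

/-!
Fusion of involutions in a simple group with an involution centraliser isomorphic to the group of 192 labels.
-/

set_option autoImplicit false

namespace Cfsg.Agent.H86.MTwelve

open Subgroup

variable {G : Type*} [Group G]

lemma two_iff {x : G} : orderOf x = 2 ↔ x * x = 1 ∧ x ≠ 1 := by
  haveI : Fact (Nat.Prime 2) := ⟨Nat.prime_two⟩
  rw [orderOf_eq_prime_iff, sq]

lemma two_of_isConj {x y : G} (h : IsConj x y) (hx : orderOf x = 2) : orderOf y = 2 := by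
  obtain ⟨g, rfl⟩ := isConj_iff.1 h
  rwa [← MulAut.conj_apply, MulEquiv.orderOf_eq]

/-- A proper subgroup of a finite 2-group is properly normalised. -/
lemma exists_normalizing [Finite G] {S P : Subgroup G} (hP : IsPGroup 2 P) (hSP : S ≤ P) (hne : S ≠ P) :
    ∃ n ∈ P, n ∉ S ∧ ∀ x ∈ S, n * x * n⁻¹ ∈ S := by
  haveI : Fact (Nat.Prime 2) := ⟨Nat.prime_two⟩
  haveI := hP.isNilpotent
  have hlt : S.subgroupOf P < ⊤ := lt_top_iff_ne_top.2 fun h => hne (le_antisymm hSP (subgroupOf_eq_top.1 h))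
  obtain ⟨n, hn, hnS⟩ := SetLike.exists_of_lt (Group.normalizerCondition_of_isNilpotent _ hlt)
  exact ⟨n, n.2, hnS, fun x hx => mem_subgroupOf.1 ((mem_normalizer_iff.1 hn ⟨x, hSP hx⟩).1 hx)⟩

namespace Emb

variable {t : G} (E : Emb t)

include E in
lemma finite_cent : Nat.card ↥(centralizer ({t} : Set G)) = 192 := by
  rw [← E.range_eq, ← Nat.card_congr (MonoidHom.ofInjective E.inj).toEquiv, M.card_M]

lemma eq_iff {a b : M} : E.hom a = E.hom b ↔ a = b := E.inj.eq_iff

lemma two_hom {m : M} : orderOf (E.hom m) = 2 ↔ m * m = 1 ∧ m ≠ 1 := by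
  rw [two_iff, ← map_mul, ← map_one E.hom, E.eq_iff, ne_eq, E.eq_iff]

lemma comm_hom {a b : M} : E.hom a * E.hom b = E.hom b * E.hom a ↔ a * b = b * a := by
  rw [← map_mul, ← map_mul, E.eq_iff]

/-- The elements commuting with the centre and an image. -/
lemma inf_cent (m : M) : centralizer ({t} : Set G) ⊓ centralizer ({E.hom m} : Set G) =
    (centralizer ({m} : Set M)).map E.hom := by
  ext g
  rw [mem_inf, mem_centralizer_singleton_iff, mem_centralizer_singleton_iff, mem_map]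
  constructor
  · rintro ⟨h1, h2⟩
    obtain ⟨a, rfl⟩ := E.mem_iff.1 h1
    exact ⟨a, mem_centralizer_singleton_iff.2 (E.comm_hom.1 h2), rfl⟩
  · rintro ⟨a, ha, rfl⟩
    exact ⟨E.comm a, E.comm_hom.2 (mem_centralizer_singleton_iff.1 ha)⟩

lemma card_inf_cent (m : M) :
    Nat.card ↥(centralizer ({t} : Set G) ⊓ centralizer ({E.hom m} : Set G)) =
      Nat.card ↥(centralizer ({m} : Set M)) := by
  rw [E.inf_cent, card_map_of_injective E.inj]

lemma isConj_of {a b : M} (h : ∃ g : M, g * a * g⁻¹ = b) : IsConj (E.hom a) (E.hom b) := by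
  obtain ⟨g, rfl⟩ := h
  exact isConj_iff.2 ⟨E.hom g, by simp⟩

variable (ht : orderOf t = 2)
include ht

lemma hom_z : E.hom M.z = t := E.map_z (two_iff.1 ht).2

lemma two_a₀ : orderOf (E.hom M.a₀) = 2 := E.two_hom.2 ((M.invol_iff _).2 (by simp [M.isA_a₀]))

lemma two_b₀ : orderOf (E.hom M.b₀) = 2 := E.two_hom.2 ((M.invol_iff _).2 (by simp [M.isB_b₀]))

lemma two_c₀ : orderOf (E.hom M.c₀) = 2 := E.two_hom.2 ((M.invol_iff _).2 (by simp [M.isC_c₀]))

variable [Finite G]

/-- The Sylow subgroup of the centraliser is one of the group. -/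
lemma exists_sylow : ∃ P : Sylow 2 G, (P : Subgroup G) = M.T.map E.hom := by
  haveI : Fact (Nat.Prime 2) := ⟨Nat.prime_two⟩
  have hc : Nat.card (M.T.map E.hom) = 2 ^ 6 := by
    rw [card_map_of_injective E.inj, M.card_T]; norm_num
  obtain ⟨P, hP⟩ := (IsPGroup.of_card hc).exists_le_sylow
  refine ⟨P, by_contra fun hne => ?_⟩
  obtain ⟨n, hnP, hnT, hn⟩ := exists_normalizing P.isPGroup' hP (Ne.symm hne)
  obtain ⟨m, hm, hme⟩ := hn t ⟨M.z, M.z_mem_T, E.hom_z ht⟩
  have hmz : m = M.z := by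
    refine (M.T_center hm fun x hx => ?_).resolve_left fun h => ?_
    · -- the image of the centre is central
      let f : ↥(M.T.map E.hom) → ↥(M.T.map E.hom) := fun y => ⟨n * y * n⁻¹, hn y y.2⟩
      have hf : Function.Bijective f := (Finite.injective_iff_bijective).1 fun a b h =>
        Subtype.ext (mul_left_cancel (mul_right_cancel (congrArg Subtype.val h : n * (a : G) * n⁻¹ = n * b * n⁻¹)))
      obtain ⟨⟨y, hy⟩, hyx⟩ := hf.2 ⟨E.hom x, mem_map_of_mem _ hx⟩
      have hyx'' : n * y * n⁻¹ = E.hom x := congrArg Subtype.val hyx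
      obtain ⟨k, -, hk⟩ := hy
      have hyx' : n * E.hom k * n⁻¹ = E.hom x := hk ▸ hyx''
      apply E.inj
      rw [map_mul, map_mul, hme, ← hyx']
      have h := E.comm k
      calc n * E.hom k * n⁻¹ * (n * t * n⁻¹) = n * (E.hom k * t) * n⁻¹ := by group
        _ = n * t * n⁻¹ * (n * E.hom k * n⁻¹) := by rw [h]; group
    · rw [h, map_one] at hme
      exact (two_iff.1 ht).2 (conj_eq_one_iff.1 hme.symm)
  rw [hmz, E.hom_z ht] at hme
  have hnc : n ∈ centralizer ({t} : Set G) :=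
    mem_centralizer_singleton_iff.2 (eq_mul_inv_iff_mul_eq.1 hme).symm
  set R := (P : Subgroup G) ⊓ centralizer ({t} : Set G) with hR
  have hTR : M.T.map E.hom ≤ R := le_inf hP fun y hy => by
    obtain ⟨k, -, rfl⟩ := hy
    exact mem_centralizer_singleton_iff.2 (E.comm k)
  obtain ⟨j, hj⟩ := (P.isPGroup'.to_le inf_le_left : IsPGroup 2 R).exists_card_eq
  have hd : Nat.card R ∣ 192 := E.finite_cent ▸ card_dvd_of_le inf_le_right
  have hle : Nat.card R ≤ 64 := by
    rw [hj] at hd ⊢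
    have : 2 ^ j ∣ 64 := (Nat.Coprime.dvd_of_dvd_mul_right (k := 2 ^ j) (n := 3) (m := 64)
      (Nat.Coprime.pow_left _ (by norm_num)) (by simpa using hd))
    exact Nat.le_of_dvd (by norm_num) this
  refine hnT ?_
  rw [eq_of_le_of_card_ge hTR (by rw [hc]; exact hle)]
  exact ⟨hnP, hnc⟩

/-- A 2-subgroup centralising `c₀` containing the common centraliser is that centraliser. -/
lemma cent_c_max {Q : Subgroup G} (hQ : IsPGroup 2 Q) (hQc : ∀ q ∈ Q, q * E.hom M.c₀ = E.hom M.c₀ * q)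
    (hSQ : (centralizer ({M.c₀} : Set M)).map E.hom ≤ Q) :
    Q = (centralizer ({M.c₀} : Set M)).map E.hom := by
  by_contra hne
  obtain ⟨n, hnQ, hnS, hn⟩ := exists_normalizing hQ hSQ (Ne.symm hne)
  obtain ⟨g, h, hg, hh, hz⟩ := M.exists_comm_z
  obtain ⟨g', hg', hge⟩ := hn _ (mem_map_of_mem E.hom (mem_centralizer_singleton_iff.2 hg))
  obtain ⟨h', hh', hhe⟩ := hn _ (mem_map_of_mem E.hom (mem_centralizer_singleton_iff.2 hh))
  have he : E.hom (g' * h' * g'⁻¹ * h'⁻¹) = n * t * n⁻¹ := by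
    suffices h1 : E.hom (g' * h' * g'⁻¹ * h'⁻¹) = n * E.hom M.z * n⁻¹ by rwa [E.hom_z ht] at h1
    rw [← hz, map_mul, map_mul, map_mul, map_inv, map_inv, hge, hhe, map_mul, map_mul,
      map_mul, map_inv, map_inv]
    group
  rcases M.comm_cases (mem_centralizer_singleton_iff.1 hg') (mem_centralizer_singleton_iff.1 hh') with h1 | h1
  · rw [h1, map_one] at he
    exact (two_iff.1 ht).2 (conj_eq_one_iff.1 he.symm)
  · rw [h1, E.hom_z ht] at he
    refine hnS ?_
    rw [← E.inf_cent]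
    exact ⟨mem_centralizer_singleton_iff.2 (eq_mul_inv_iff_mul_eq.1 he).symm,
      mem_centralizer_singleton_iff.2 (hQc n hnQ)⟩

/-- The class of twelve is not conjugate to the centre. -/
lemma not_isConj_c : ¬ IsConj t (E.hom M.c₀) := by
  intro h
  haveI : Fact (Nat.Prime 2) := ⟨Nat.prime_two⟩
  obtain ⟨g, hg⟩ := isConj_iff.1 h
  set S := (centralizer ({M.c₀} : Set M)).map E.hom with hS
  have hS16 : Nat.card S = 2 ^ 4 := by
    rw [hS, card_map_of_injective E.inj, M.card_cent_c M.isC_c₀]; norm_num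
  have hSc : S ≤ centralizer ({E.hom M.c₀} : Set G) := by
    rintro _ ⟨k, hk, rfl⟩
    exact mem_centralizer_singleton_iff.2 (E.comm_hom.2 (mem_centralizer_singleton_iff.1 hk))
  have hC : Nat.card ↥(centralizer ({E.hom M.c₀} : Set G)) = 192 := (hg ▸ E.conj g).finite_cent
  have hp : IsPGroup 2 (S.subgroupOf (centralizer ({E.hom M.c₀} : Set G))) :=
    IsPGroup.of_card (n := 4) (by rw [← hS16, Nat.card_congr (subgroupOfEquivOfLe hSc).toEquiv])
  obtain ⟨P, hP⟩ := hp.exists_le_sylow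
  have hPc : Nat.card P = 64 := by
    rw [Sylow.card_eq_multiplicity, hC]
    have : (192 : ℕ).factorization 2 = 6 := by
      rw [Nat.factorization_def _ Nat.prime_two, show (192 : ℕ) = 2 ^ 6 * 3 by norm_num,
        padicValNat.mul (by norm_num) (by norm_num), padicValNat.prime_pow,
        padicValNat.eq_zero_of_not_dvd (by norm_num : ¬ 2 ∣ 3)]
    rw [this]; norm_num
  have hQ := E.cent_c_max ht (Q := (P : Subgroup _).map (centralizer ({E.hom M.c₀} : Set G)).subtype)
    (P.isPGroup'.map _) (by rintro _ ⟨q, -, rfl⟩; exact mem_centralizer_singleton_iff.1 q.2)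
    (fun y hy => ⟨⟨y, hSc hy⟩, hP hy, rfl⟩)
  have := congrArg (fun Q : Subgroup G => Nat.card Q) hQ
  simp only [card_map_of_injective (subtype_injective _), ← hS, hS16] at this
  rw [hPc] at this
  norm_num at this

lemma not_isConj_isC {m : M} (hm : M.IsC m) : ¬ IsConj t (E.hom m) := fun h =>
  E.not_isConj_c ht (h.trans (E.isConj_of (M.conj_c hm)).symm)

variable [IsSimpleGroup G] (hG : ¬ ∀ a b : G, a * b = b * a)
include hG

/-- The class of six is conjugate to the centre. -/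
lemma isConj_a₀ : IsConj t (E.hom M.a₀) := by
  obtain ⟨P, hP⟩ := E.exists_sylow ht
  obtain ⟨g, hgP, hgne⟩ := H48.GTwoFusion.exists_conj_ne hG P ht
    (by rw [hP]; exact ⟨M.z, M.z_mem_T, E.hom_z ht⟩)
  rw [hP] at hgP
  obtain ⟨m₀, -, hm₀⟩ := hgP
  have hconj : IsConj t (E.hom m₀) := isConj_iff.2 ⟨g, hm₀.symm⟩
  rcases (M.invol_iff m₀).1 (E.two_hom.1 (two_of_isConj hconj ht)) with h | h | h | h
  · rw [h, E.hom_z ht] at hm₀; exact absurd hm₀.symm hgne
  · exact hconj.trans (E.isConj_of (M.conj_a h)).symm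
  swap
  · exact absurd hconj (E.not_isConj_isC ht h)
  by_contra hna
  -- now the class of 24 contains a conjugate of the centre
  obtain ⟨k, hk⟩ := isConj_iff.1 (hconj.trans (E.isConj_of (M.conj_b h)).symm)
  let E' : Emb (E.hom M.b₀) := hk ▸ E.conj k
  have hbtwo := E.two_b₀ ht
  have hE'A : ∀ p : M, M.IsA p → IsConj (E.hom M.a₀) (E'.hom p) := by
    have hgen : ∀ (x : G) (hx : k * t * k⁻¹ = x) (p : M), M.IsA p →
        IsConj (E.hom M.a₀) ((hx ▸ E.conj k : Emb x).hom p) := by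
      intro x hx p hp
      subst hx
      exact (E.isConj_of (M.conj_a hp)).trans (isConj_iff.2 ⟨k, rfl⟩)
    exact hgen _ hk
  obtain ⟨m, hm⟩ := E'.mem_iff.1 (E.comm M.b₀).symm
  have hm2 := E'.two_hom.1 ((congrArg orderOf hm).trans ht)
  have hcard : Nat.card ↥(centralizer ({m} : Set M)) = 8 := by
    rw [← E'.card_inf_cent, hm, inf_comm, E.card_inf_cent, M.card_cent_b M.isB_b₀]
  have hmB : M.IsB m := by
    rcases (M.invol_iff m).1 hm2 with h' | h' | h' | h'
    · exfalso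
      rw [h', E'.hom_z hbtwo] at hm
      exact ((M.disjoint_classes _).1 (E.inj (hm.trans (E.hom_z ht).symm))).2.1 M.isB_b₀
    · rw [M.card_cent_a h'] at hcard; omega
    · exact h'
    · rw [M.card_cent_c h'] at hcard; omega
  obtain ⟨p, q, hp, hq, hpm, hqm, hpq⟩ := M.exists_a_pair hmB
  have key : ∀ p : M, M.IsA p → p * m = m * p →
      ∃ p' : M, E.hom p' = E'.hom p ∧ (M.IsA p' ∨ M.IsC p') ∧ p' * M.b₀ = M.b₀ * p' := by
    intro p hp hpm
    obtain ⟨p', hp'⟩ := E.mem_iff.1 (show E'.hom p * t = t * E'.hom p by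
      have hc := E'.comm_hom.2 hpm
      rwa [hm] at hc)
    refine ⟨p', hp', ?_, E.comm_hom.1 (by rw [hp']; exact E'.comm p)⟩
    have h2 : p' * p' = 1 ∧ p' ≠ 1 := E.two_hom.1 (by
      rw [hp']; exact E'.two_hom.2 ((M.invol_iff p).2 (Or.inr (Or.inl hp))))
    rcases (M.invol_iff p').1 h2 with h' | h' | h' | h'
    · rw [h', E.hom_z ht] at hp'
      have he : m = p := E'.inj (hm.trans hp')
      exact absurd hmB (he ▸ ((M.disjoint_classes p).2.1 hp).1)
    · exact Or.inl h'
    · exfalso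
      refine hna ?_
      have h1 : IsConj t (E.hom p') :=
        (hconj.trans (E.isConj_of (M.conj_b h)).symm).trans (E.isConj_of (M.conj_b h'))
      rw [hp'] at h1
      exact h1.trans (hE'A p hp).symm
    · exact Or.inr h'
  obtain ⟨p', hp', hpc, hpb⟩ := key p hp hpm
  obtain ⟨q', hq', hqc, hqb⟩ := key q hq hqm
  refine M.no_pair_b₀ hpc hqc hpb hqb (E.inj ?_)
  rw [map_mul, hp', hq', ← map_mul, hpq, E'.hom_z hbtwo]

/-- Two classes of involutions. -/
lemma class_cases {v : G} (hv : orderOf v = 2) : IsConj t v ∨ IsConj (E.hom M.c₀) v := by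
  haveI : Fact (Nat.Prime 2) := ⟨Nat.prime_two⟩
  obtain ⟨P, hP⟩ := E.exists_sylow ht
  have hA := E.isConj_a₀ ht hG
  have hB : IsConj t (E.hom M.b₀) ∨ IsConj (E.hom M.c₀) (E.hom M.b₀) := by
    have hle : M.TQ.map E.hom ≤ (P : Subgroup G) := hP ▸ map_mono M.TQ_le
    have hrel : (M.TQ.map E.hom).relIndex (P : Subgroup G) = 2 := by
      have h := relIndex_mul_index hle
      have h1 := card_mul_index (M.TQ.map E.hom)
      have h2 := card_mul_index (P : Subgroup G)
      rw [card_map_of_injective E.inj, M.card_TQ, ← h] at h1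
      rw [hP, card_map_of_injective E.inj, M.card_T] at h2
      rw [hP] at h1 ⊢
      have hi : (M.T.map E.hom).index ≠ 0 := index_ne_zero_of_finite
      have : 32 * (M.TQ.map E.hom).relIndex (M.T.map E.hom) * (M.T.map E.hom).index =
          32 * 2 * (M.T.map E.hom).index := by rw [mul_assoc, h1, ← h2]
      have := Nat.eq_of_mul_eq_mul_right (Nat.pos_of_ne_zero hi) this
      omega
    obtain ⟨g, hg, -⟩ := H48.GTwoFusion.transfer_extremal (H48.GTwoFusion.no_index_two hG) P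
      (M.TQ.map E.hom) hle hrel (E.hom M.b₀) (E.two_b₀ ht) ⊥ (IsPGroup.of_bot)
      (fun r hr => by rw [mem_bot.1 hr, one_mul, mul_one])
    obtain ⟨m, hm, hme⟩ := hg
    have hc : IsConj (E.hom M.b₀) (E.hom m) := isConj_iff.2 ⟨g, hme.symm⟩
    rcases (M.invol_iff m).1 (E.two_hom.1 (two_of_isConj hc (E.two_b₀ ht))) with h | h | h | h
    · rw [h, E.hom_z ht] at hc; exact Or.inl hc.symm
    · exact Or.inl ((hA.trans (E.isConj_of (M.conj_a h))).trans hc.symm)
    · exact absurd h (M.TQ_not_isB hm)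
    · exact Or.inr ((E.isConj_of (M.conj_c h)).trans hc.symm)
  have hp : IsPGroup 2 (zpowers v) := IsPGroup.of_card (n := 1) (by rw [Nat.card_zpowers, hv]; rfl)
  obtain ⟨P', hP'⟩ := hp.exists_le_sylow
  obtain ⟨g, hg⟩ := MulAction.exists_smul_eq G P' P
  have hgv : g * v * g⁻¹ ∈ M.T.map E.hom := by
    rw [← hP, ← hg]
    exact smul_mem_pointwise_smul v (MulAut.conj g) _ (hP' (mem_zpowers v))
  obtain ⟨m, -, hme⟩ := hgv
  have hc : IsConj v (E.hom m) := isConj_iff.2 ⟨g, hme.symm⟩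
  rcases (M.invol_iff m).1 (E.two_hom.1 (two_of_isConj hc hv)) with h | h | h | h
  · rw [h, E.hom_z ht] at hc; exact Or.inl hc.symm
  · exact Or.inl ((hA.trans (E.isConj_of (M.conj_a h))).trans hc.symm)
  · rcases hB with hB | hB
    · exact Or.inl ((hB.trans (E.isConj_of (M.conj_b h))).trans hc.symm)
    · exact Or.inr ((hB.trans (E.isConj_of (M.conj_b h))).trans hc.symm)
  · exact Or.inr ((E.isConj_of (M.conj_c h)).trans hc.symm)

end Emb

end Cfsg.Agent.H86.MTwelve
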