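import Cfsg.Agent.H86.MTwelve.Facts

/-!
Pair counts in the group of 192 labels.
-/

set_option autoImplicit false
set_option linter.constructorNameAsVariable false

namespace Cfsg.Agent.H86.MTwelve

namespace M

/-- Powers on labels. -/
def npw (w : ℕ) : ℕ → ℕ
  | 0 => 0
  | k + 1 => nmul (npw w k) w

/-- The target is a power of the label. -/
def inPow (w t : ℕ) : Bool := (List.range 8).any fun k => npw w k == t

lemma npw_val (w : M) : ∀ k : ℕ, npw w.val k = (w ^ k).val
  | 0 => by rw [npw, pow_zero, one_val]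
  | k + 1 => by rw [npw, npw_val w k, pow_succ, mul_val]

lemma order_check :
    ((List.range 192).all fun w => (List.range 8).any fun k => npw w (k + 1) == 0) = true := by
  decide +kernel

lemma mem_zpowers_iff (w t : M) : t ∈ Subgroup.zpowers w ↔ inPow w.val t.val = true := by
  simp only [inPow, List.any_eq_true, List.mem_range, beq_iff_eq, npw_val, val_inj]
  constructor
  · intro h
    obtain ⟨k, hk⟩ := List.any_eq_true.1 (all_range order_check w)
    rw [List.mem_range, beq_iff_eq, npw_val, ← one_val, val_inj] at hk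
    have hle : orderOf w ≤ 8 :=
      le_trans (Nat.le_of_dvd (Nat.succ_pos k) (orderOf_dvd_of_pow_eq_one hk.2)) (by omega)
    obtain ⟨j, hj⟩ := (mem_powers_iff_mem_zpowers (x := w) (y := t)).2 h
    simp only at hj
    exact ⟨j % orderOf w, lt_of_lt_of_le (Nat.mod_lt _ (orderOf_pos w)) hle, by
      rw [pow_mod_orderOf, hj]⟩
  · rintro ⟨k, -, rfl⟩
    exact pow_mem (Subgroup.mem_zpowers w) k

lemma card_filter_pairs (p : M × M → Prop) [DecidablePred p] (q : ℕ × ℕ → Bool)
    (h : ∀ a, p a ↔ q (a.1.val, a.2.val) = true) :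
    Nat.card {a : M × M // p a} = ((List.range 192 ×ˢ List.range 192).filter q).length := by
  rw [Nat.card_eq_fintype_card, Fintype.card_subtype,
    ← List.toFinset_card_of_nodup ((List.nodup_range.product List.nodup_range).filter q),
    ← Finset.card_image_of_injective _ (f := fun a : M × M => (a.1.val, a.2.val))
      fun a b h => Prod.ext (val_inj.1 (congrArg Prod.fst h)) (val_inj.1 (congrArg Prod.snd h))]
  refine congrArg Finset.card (Finset.ext fun x => ?_)
  obtain ⟨m, n⟩ := x
  rw [Finset.mem_image, List.mem_toFinset, List.mem_filter]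
  erw [List.pair_mem_product]
  constructor
  · rintro ⟨a, ha, he⟩
    rw [Finset.mem_filter] at ha
    obtain ⟨rfl, rfl⟩ := Prod.mk.inj he
    exact ⟨⟨List.mem_range.2 a.1.val_lt, List.mem_range.2 a.2.val_lt⟩, (h a).1 ha.2⟩
  · intro hmn
    have hm : (mk m).val = m := val_mk (List.mem_range.1 hmn.1.1)
    have hn : (mk n).val = n := val_mk (List.mem_range.1 hmn.1.2)
    have hp : p (mk m, mk n) := (h (mk m, mk n)).2 (by rw [hm, hn]; exact hmn.2)
    exact ⟨(mk m, mk n), by simp only [Finset.mem_filter, Finset.mem_univ, true_and, hp], by rw [hm, hn]⟩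

lemma count_checks :
    (((List.range 192 ×ˢ List.range 192).filter fun a =>
      (a.1 == Data.zN || Data.maskA.testBit a.1) &&
        ((Data.maskB.testBit a.2 || Data.maskC.testBit a.2) && inPow (nmul a.1 a.2) Data.zN)).length = 48) ∧
    (((List.range 192 ×ˢ List.range 192).filter fun a =>
      (a.1 == Data.zN || Data.maskA.testBit a.1 || Data.maskB.testBit a.1) &&
        (Data.maskC.testBit a.2 && inPow (nmul a.1 a.2) Data.zN)).length = 240) ∧
    (((List.range 192 ×ˢ List.range 192).filter fun a =>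
      ((a.1 == Data.zN || Data.maskA.testBit a.1) && cm a.1 Data.cN) &&
        (((Data.maskB.testBit a.2 || Data.maskC.testBit a.2) && cm a.2 Data.cN) &&
          inPow (nmul a.1 a.2) Data.cN)).length = 3) ∧
    (((List.range 192).all fun m => !(Data.maskB.testBit m) ||
      ((List.range 192).filter fun y => (Data.maskA.testBit y || Data.maskB.testBit y) &&
        (!(cm y m) && inPow (nmul y m) Data.zN)).length == 12) = true) := by
  decide +kernel

open Classical in
lemma count_z_split :
    Nat.card {a : M × M // (a.1 = z ∨ IsA a.1) ∧ (IsB a.2 ∨ IsC a.2) ∧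
      z ∈ Subgroup.zpowers (a.1 * a.2)} = 48 :=
  (card_filter_pairs _ _ (fun a => by
    simp only [IsA, IsB, IsC, mem_zpowers_iff, mul_val, Bool.and_eq_true, Bool.or_eq_true, beq_iff_eq,
      ← z_val, val_inj])).trans count_checks.1

open Classical in
lemma count_z_fused :
    Nat.card {a : M × M // (a.1 = z ∨ IsA a.1 ∨ IsB a.1) ∧ IsC a.2 ∧
      z ∈ Subgroup.zpowers (a.1 * a.2)} = 240 :=
  (card_filter_pairs _ _ (fun a => by
    simp only [IsA, IsB, IsC, mem_zpowers_iff, mul_val, Bool.and_eq_true, Bool.or_eq_true, beq_iff_eq,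
      ← z_val, val_inj, or_assoc])).trans count_checks.2.1

open Classical in
lemma count_c_split :
    Nat.card {a : M × M // ((a.1 = z ∨ IsA a.1) ∧ a.1 * c₀ = c₀ * a.1) ∧
      ((IsB a.2 ∨ IsC a.2) ∧ a.2 * c₀ = c₀ * a.2) ∧ c₀ ∈ Subgroup.zpowers (a.1 * a.2)} = 3 :=
  (card_filter_pairs _ _ (fun a => by
    simp only [IsA, IsB, IsC, mem_zpowers_iff, mul_val, Bool.and_eq_true, Bool.or_eq_true, beq_iff_eq,
      ← c₀_val, cm_iff, ← z_val, val_inj])).trans count_checks.2.2.1

open Classical in
lemma count_outer {m : M} (hm : IsB m) :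
    Nat.card {y : M // (IsA y ∨ IsB y) ∧ ¬ y * m = m * y ∧ z ∈ Subgroup.zpowers (y * m)} = 12 := by
  rw [IsB] at hm
  have h := all_range count_checks.2.2.2 m
  rw [hm, Bool.not_true, Bool.false_or, beq_iff_eq] at h
  refine (card_filter _ _ (fun y => ?_)).trans h
  simp only [IsA, IsB, mem_zpowers_iff, mul_val, Bool.and_eq_true, Bool.or_eq_true, Bool.not_eq_true',
    ← z_val, ← cm_iff, Bool.not_eq_true]

end M

end Cfsg.Agent.H86.MTwelve
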