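import Cfsg.Agent.H86.MTwelve.Model

/-!
Checked facts on the group of 192 labels: involution classes, Sylow subgroup and pair counts.
-/

set_option autoImplicit false

namespace Cfsg.Agent.H86.MTwelve

namespace M

/-- The central involution. -/
def z : M := mk Data.zN
/-- First representative of the class of six. -/
def a₀ : M := mk Data.aN
/-- Second representative of the class of six. -/
def a₁ : M := mk Data.aN'
/-- Representative of the class of 24. -/
def b₀ : M := mk Data.bN
/-- Representative of the class of twelve. -/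
def c₀ : M := mk Data.cN

/-- The class of six. -/
def IsA (m : M) : Prop := Data.maskA.testBit m.val = true
/-- The class of 24. -/
def IsB (m : M) : Prop := Data.maskB.testBit m.val = true
/-- The class of twelve. -/
def IsC (m : M) : Prop := Data.maskC.testBit m.val = true

instance : DecidablePred IsA := fun _ => inferInstanceAs (Decidable (_ = _))
instance : DecidablePred IsB := fun _ => inferInstanceAs (Decidable (_ = _))
instance : DecidablePred IsC := fun _ => inferInstanceAs (Decidable (_ = _))

/-- Commuting labels. -/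
def cm (a b : ℕ) : Bool := nmul a b == nmul b a

lemma cm_iff (a b : M) : cm a.val b.val = true ↔ a * b = b * a := by
  rw [cm, beq_iff_eq, ← mul_val, ← mul_val, val_inj]

lemma z_val : z.val = Data.zN := val_mk (by decide)
lemma a₀_val : a₀.val = Data.aN := val_mk (by decide)
lemma a₁_val : a₁.val = Data.aN' := val_mk (by decide)
lemma b₀_val : b₀.val = Data.bN := val_mk (by decide)
lemma c₀_val : c₀.val = Data.cN := val_mk (by decide)

lemma all_prop {P : M → Prop} {q : ℕ → Bool} (h : (List.range 192).all q = true)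
    (hq : ∀ a, q a.val = true → P a) (a : M) : P a := hq a (all_range h a)

lemma exists_range {q : ℕ → Bool} (h : (List.range 192).any q = true) : ∃ a : M, q a.val = true := by
  obtain ⟨n, hn, hq⟩ := List.any_eq_true.1 h
  exact ⟨mk n, by rw [val_mk (List.mem_range.1 hn)]; exact hq⟩

/-! ### Raw checks -/

lemma rep_checks :
    (Data.maskA.testBit Data.aN && Data.maskA.testBit Data.aN' && Data.maskB.testBit Data.bN &&
      Data.maskC.testBit Data.cN && !(Data.aN == Data.aN') && Data.maskT.testBit Data.zN &&
      Data.maskT.testBit Data.bN && !(Data.maskQ1.testBit Data.cN) &&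
      cm Data.aN Data.cN && cm Data.aN' Data.cN && cm Data.zN Data.cN &&
      nmul Data.aN Data.aN' == Data.zN) = true := by
  decide +kernel

lemma class_checks :
    ((List.range 192).all fun m =>
      (if nmul m m == 0 && !(m == 0) then
        (if m == Data.zN then !(Data.maskA.testBit m || Data.maskB.testBit m || Data.maskC.testBit m)
         else if Data.maskA.testBit m then !(Data.maskB.testBit m || Data.maskC.testBit m)
         else if Data.maskB.testBit m then !(Data.maskC.testBit m)
         else Data.maskC.testBit m)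
       else !(Data.maskA.testBit m || Data.maskB.testBit m || Data.maskC.testBit m || m == Data.zN)) &&
      cm m Data.zN &&
      (m == 0 || m == Data.zN || !(cm m Data.genA && cm m Data.genB)) &&
      (!(Data.maskT.testBit m) || m == 0 || m == Data.zN ||
        (List.range 192).any fun x => Data.maskT.testBit x && !(cm m x))) = true := by
  decide +kernel

lemma conj_checks :
    ((List.range 192).all fun m =>
      (!(Data.maskA.testBit m) || (List.range 192).any fun g => nmul g Data.aN == nmul m g) &&
      (!(Data.maskB.testBit m) || (List.range 192).any fun g => nmul g Data.bN == nmul m g) &&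
      (!(Data.maskC.testBit m) || (List.range 192).any fun g => nmul g Data.cN == nmul m g)) = true := by
  decide +kernel

lemma cent_checks :
    ((List.range 192).all fun m =>
      (!(Data.maskA.testBit m) || ((List.range 192).filter fun x => cm x m).length == 32) &&
      (!(Data.maskB.testBit m) || ((List.range 192).filter fun x => cm x m).length == 8) &&
      (!(Data.maskC.testBit m) || ((List.range 192).filter fun x => cm x m).length == 16)) = true := by
  decide +kernel

/-- A mask is closed under the operations. -/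
def closedMask (mask : ℕ) : Bool :=
  mask.testBit 0 && (List.range 192).all fun a => !(mask.testBit a) ||
    (mask.testBit (byteAt Data.invPack a) &&
      (List.range 192).all fun b => !(mask.testBit b) || mask.testBit (nmul a b))

lemma closed_checks :
    closedMask Data.maskT = true ∧ closedMask Data.maskTQ = true ∧ closedMask Data.maskQ1 = true ∧
    ((List.range 192).filter Data.maskT.testBit).length = 64 ∧
    ((List.range 192).filter Data.maskTQ.testBit).length = 32 ∧
    ((List.range 192).filter Data.maskQ1.testBit).length = 8 ∧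
    ((List.range 192).all fun m =>
      (!(Data.maskTQ.testBit m) || (Data.maskT.testBit m && !(Data.maskB.testBit m))) &&
      (!(Data.maskQ1.testBit m) || cm m Data.cN)) = true := by
  decide +kernel

/-! ### Elementary consequences -/

lemma isA_a₀ : IsA a₀ := by
  have h := rep_checks; simp only [Bool.and_eq_true] at h
  rw [IsA, a₀_val]; tauto

lemma isA_a₁ : IsA a₁ := by
  have h := rep_checks; simp only [Bool.and_eq_true] at h
  rw [IsA, a₁_val]; tauto

lemma isB_b₀ : IsB b₀ := by
  have h := rep_checks; simp only [Bool.and_eq_true] at h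
  rw [IsB, b₀_val]; tauto

lemma isC_c₀ : IsC c₀ := by
  have h := rep_checks; simp only [Bool.and_eq_true] at h
  rw [IsC, c₀_val]; tauto

lemma a₀_ne_a₁ : a₀ ≠ a₁ := by
  rw [Ne, ← val_inj, a₀_val, a₁_val]; decide

lemma a₀_comm_c₀ : a₀ * c₀ = c₀ * a₀ := by
  have h := rep_checks; simp only [Bool.and_eq_true] at h
  rw [← cm_iff, a₀_val, c₀_val]; tauto

lemma a₁_comm_c₀ : a₁ * c₀ = c₀ * a₁ := by
  have h := rep_checks; simp only [Bool.and_eq_true] at h
  rw [← cm_iff, a₁_val, c₀_val]; tauto

lemma a₀_mul_a₁ : a₀ * a₁ = z := by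
  have h := rep_checks; simp only [Bool.and_eq_true, beq_iff_eq] at h
  rw [← val_inj, mul_val, a₀_val, a₁_val, z_val]; exact h.2

lemma comm_z (m : M) : m * z = z * m := by
  have h := all_range class_checks m
  simp only [Bool.and_eq_true] at h
  rw [← cm_iff, z_val]; exact h.1.1.2

lemma invol_iff (m : M) : (m * m = 1 ∧ m ≠ 1) ↔ (m = z ∨ IsA m ∨ IsB m ∨ IsC m) := by
  have h := all_range class_checks m
  simp only [Bool.and_eq_true] at h
  have h := h.1.1.1
  simp only [← mul_val, ← z_val, ← one_val, beq_iff_eq, Bool.and_eq_true, Bool.not_eq_true',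
    Bool.or_eq_false_iff, beq_eq_false_iff_ne, val_inj, ne_eq] at h
  unfold IsA IsB IsC
  split_ifs at h <;> simp_all [val_inj]

lemma disjoint_classes (m : M) :
    (m = z → ¬ IsA m ∧ ¬ IsB m ∧ ¬ IsC m) ∧ (IsA m → ¬ IsB m ∧ ¬ IsC m) ∧ (IsB m → ¬ IsC m) := by
  have h := all_range class_checks m
  simp only [Bool.and_eq_true] at h
  have h := h.1.1.1
  simp only [← mul_val, ← z_val, ← one_val, beq_iff_eq, Bool.and_eq_true, Bool.not_eq_true',
    Bool.or_eq_false_iff, beq_eq_false_iff_ne, val_inj, ne_eq] at h
  unfold IsA IsB IsC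
  split_ifs at h <;> simp_all [val_inj]

lemma z_invol : z * z = 1 ∧ z ≠ 1 := (invol_iff z).2 (Or.inl rfl)

lemma center_cases {m : M} (h : ∀ g, g * m = m * g) : m = 1 ∨ m = z := by
  have h' := all_range class_checks m
  simp only [Bool.and_eq_true, Bool.or_eq_true, beq_iff_eq, Bool.not_eq_true'] at h'
  rcases h'.1.2 with (h1 | h1) | h1
  · exact Or.inl (val_inj.1 (h1.trans one_val.symm))
  · exact Or.inr (val_inj.1 (h1.trans z_val.symm))
  · have hA := (cm_iff m (mk Data.genA)).2 (h _).symm
    have hB := (cm_iff m (mk Data.genB)).2 (h _).symm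
    rw [val_mk (by decide : Data.genA < 192)] at hA
    rw [val_mk (by decide : Data.genB < 192)] at hB
    rw [hA, hB] at h1
    exact absurd h1 (by decide)

/-- The subgroup of a closed mask. -/
def maskSub (mask : ℕ) (h : closedMask mask = true) : Subgroup M where
  carrier := {m | mask.testBit m.val = true}
  one_mem' := by
    rw [closedMask, Bool.and_eq_true] at h
    rw [Set.mem_ofPred_eq, one_val]; exact h.1
  mul_mem' := by
    intro a b ha hb
    rw [Set.mem_ofPred_eq] at ha hb
    rw [closedMask, Bool.and_eq_true] at h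
    have h1 := all_range h.2 a
    rw [ha, Bool.not_true, Bool.false_or, Bool.and_eq_true] at h1
    have h2 := all_range h1.2 b
    rw [hb, Bool.not_true, Bool.false_or] at h2
    rw [Set.mem_ofPred_eq, mul_val]; exact h2
  inv_mem' := by
    intro a ha
    rw [Set.mem_ofPred_eq] at ha
    rw [closedMask, Bool.and_eq_true] at h
    have h1 := all_range h.2 a
    rw [ha, Bool.not_true, Bool.false_or, Bool.and_eq_true] at h1
    rw [Set.mem_ofPred_eq, inv_val]; exact h1.1

lemma mem_maskSub {mask : ℕ} {h : closedMask mask = true} {m : M} :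
    m ∈ maskSub mask h ↔ mask.testBit m.val = true := Iff.rfl

lemma card_maskSub {mask : ℕ} {h : closedMask mask = true} :
    Nat.card (maskSub mask h) = ((List.range 192).filter mask.testBit).length :=
  card_filter (fun m => mask.testBit m.val = true) _ (fun _ => Iff.rfl)

/-- A Sylow 2-subgroup. -/
def T : Subgroup M := maskSub Data.maskT closed_checks.1
/-- Its maximal subgroup without elements of the class of 24. -/
def TQ : Subgroup M := maskSub Data.maskTQ closed_checks.2.1
/-- A maximal subgroup of the centraliser of `c₀` avoiding `c₀`. -/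
def Q1 : Subgroup M := maskSub Data.maskQ1 closed_checks.2.2.1

lemma card_T : Nat.card T = 64 := card_maskSub.trans closed_checks.2.2.2.1
lemma card_TQ : Nat.card TQ = 32 := card_maskSub.trans closed_checks.2.2.2.2.1
lemma card_Q1 : Nat.card Q1 = 8 := card_maskSub.trans closed_checks.2.2.2.2.2.1

lemma z_mem_T : z ∈ T := by
  have h := rep_checks; simp only [Bool.and_eq_true] at h
  rw [T, mem_maskSub, z_val]; tauto

lemma b₀_mem_T : b₀ ∈ T := by
  have h := rep_checks; simp only [Bool.and_eq_true] at h
  rw [T, mem_maskSub, b₀_val]; tauto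

lemma c₀_notMem_Q1 : c₀ ∉ Q1 := by
  have h := rep_checks; simp only [Bool.and_eq_true, Bool.not_eq_true'] at h
  rw [Q1, mem_maskSub, c₀_val]; simp [h]

lemma TQ_le : TQ ≤ T := fun m hm => by
  have h := all_range closed_checks.2.2.2.2.2.2 m
  rw [TQ, mem_maskSub] at hm
  simp only [hm, Bool.not_true, Bool.false_or, Bool.and_eq_true] at h
  exact h.1.1

lemma TQ_not_isB {m : M} (hm : m ∈ TQ) : ¬ IsB m := fun hB => by
  have h := all_range closed_checks.2.2.2.2.2.2 m
  rw [TQ, mem_maskSub] at hm
  rw [IsB] at hB
  simp [hm, hB] at h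

lemma Q1_comm {m : M} (hm : m ∈ Q1) : m * c₀ = c₀ * m := by
  have h := all_range closed_checks.2.2.2.2.2.2 m
  rw [Q1, mem_maskSub] at hm
  simp only [hm, Bool.not_true, Bool.false_or, Bool.and_eq_true] at h
  rw [← cm_iff, c₀_val]; exact h.2

lemma T_center {m : M} (hm : m ∈ T) (h : ∀ x ∈ T, x * m = m * x) : m = 1 ∨ m = z := by
  have h' := all_range class_checks m
  rw [T, mem_maskSub] at hm
  simp only [Bool.and_eq_true, Bool.or_eq_true, beq_iff_eq, hm, Bool.not_true, Bool.false_eq_true,
    false_or, List.any_eq_true, List.mem_range, Bool.not_eq_true'] at h'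
  rcases h'.2 with (h1 | h1) | ⟨x, hx, hxT, hxc⟩
  · exact Or.inl (val_inj.1 (h1.trans one_val.symm))
  · exact Or.inr (val_inj.1 (h1.trans z_val.symm))
  · have := (cm_iff m (mk x)).2 (h (mk x) (by rw [T, mem_maskSub, val_mk hx]; exact hxT)).symm
    rw [val_mk hx, hxc] at this
    exact absurd this (by decide)

lemma conj_of_check {cls : ℕ} {r : M}
    (hc : ∀ m : M, cls.testBit m.val = true →
      (List.range 192).any (fun g => nmul g r.val == nmul m.val g) = true)
    {m : M} (hm : cls.testBit m.val = true) : ∃ g : M, g * r * g⁻¹ = m := by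
  obtain ⟨g, hg⟩ := exists_range (hc m hm)
  refine ⟨g, ?_⟩
  rw [beq_iff_eq, ← mul_val, ← mul_val, val_inj] at hg
  rw [hg, mul_inv_cancel_right]

lemma conj_a {m : M} (hm : IsA m) : ∃ g : M, g * a₀ * g⁻¹ = m :=
  conj_of_check (cls := Data.maskA) (fun x hx => by
    have h := all_range conj_checks x
    simp only [hx, Bool.not_true, Bool.false_or, Bool.and_eq_true] at h
    rw [a₀_val]; exact h.1.1) hm

lemma conj_b {m : M} (hm : IsB m) : ∃ g : M, g * b₀ * g⁻¹ = m :=
  conj_of_check (cls := Data.maskB) (fun x hx => by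
    have h := all_range conj_checks x
    simp only [hx, Bool.not_true, Bool.false_or, Bool.and_eq_true] at h
    rw [b₀_val]; exact h.1.2) hm

lemma conj_c {m : M} (hm : IsC m) : ∃ g : M, g * c₀ * g⁻¹ = m :=
  conj_of_check (cls := Data.maskC) (fun x hx => by
    have h := all_range conj_checks x
    simp only [hx, Bool.not_true, Bool.false_or, Bool.and_eq_true] at h
    rw [c₀_val]; exact h.2) hm

open Classical in
lemma card_centralizer (m : M) :
    Nat.card ↥(Subgroup.centralizer ({m} : Set M)) =
      ((List.range 192).filter fun x => cm x m.val).length :=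
  card_filter (fun x => x ∈ Subgroup.centralizer ({m} : Set M)) _
    (fun x => by rw [cm_iff, Subgroup.mem_centralizer_singleton_iff])

lemma card_cent_a {m : M} (hm : IsA m) : Nat.card ↥(Subgroup.centralizer ({m} : Set M)) = 32 := by
  have h := all_range cent_checks m
  rw [IsA] at hm
  simp only [hm, Bool.not_true, Bool.false_or, Bool.and_eq_true, beq_iff_eq] at h
  rw [card_centralizer]; exact h.1.1

lemma card_cent_b {m : M} (hm : IsB m) : Nat.card ↥(Subgroup.centralizer ({m} : Set M)) = 8 := by
  have h := all_range cent_checks m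
  rw [IsB] at hm
  simp only [hm, Bool.not_true, Bool.false_or, Bool.and_eq_true, beq_iff_eq] at h
  rw [card_centralizer]; exact h.1.2

lemma card_cent_c {m : M} (hm : IsC m) : Nat.card ↥(Subgroup.centralizer ({m} : Set M)) = 16 := by
  have h := all_range cent_checks m
  rw [IsC] at hm
  simp only [hm, Bool.not_true, Bool.false_or, Bool.and_eq_true, beq_iff_eq] at h
  rw [card_centralizer]; exact h.2

/-! ### Special configurations -/

/-- Commutator on labels. -/
def ncomm (g h : ℕ) : ℕ :=
  nmul (nmul (nmul g h) (byteAt Data.invPack g)) (byteAt Data.invPack h)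

lemma ncomm_val (g h : M) : ncomm g.val h.val = (g * h * g⁻¹ * h⁻¹).val := by
  simp only [ncomm, mul_val, inv_val]

lemma config_checks :
    (((List.range 192).any fun g => cm g Data.cN &&
      (List.range 192).any fun h => cm h Data.cN && ncomm g h == Data.zN) = true) ∧
    (((List.range 192).all fun g => !(cm g Data.cN) ||
      (List.range 192).all fun h => !(cm h Data.cN) || ncomm g h == 0 || ncomm g h == Data.zN) = true) ∧
    (((List.range 192).all fun w => !(Data.maskA.testBit w) ||
      ((ncomm w Data.cN == 0 || ncomm w Data.cN == Data.zN) &&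
        (List.range 192).all fun v => !(Data.maskA.testBit v) || cm w v)) = true) ∧
    (((List.range 192).any fun w => Data.maskA.testBit w && ncomm w Data.cN == Data.zN) = true) ∧
    ((List.range 192).filter fun w => w == Data.zN || Data.maskA.testBit w).length = 7 ∧
    ((List.range 192).filter fun w => w == Data.zN || Data.maskA.testBit w || Data.maskB.testBit w).length = 31 ∧
    (((List.range 192).any fun g => cm g Data.cN && nmul g Data.aN == nmul Data.aN' g) = true) ∧
    (((List.range 192).all fun m => !(cm m Data.cN && (Data.maskA.testBit m || Data.maskB.testBit m)) ||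
      m == Data.aN || m == Data.aN') = true) ∧
    (((List.range 192).any fun s => cm s Data.cN && nmul s s == 0 &&
      [0, Data.zN, Data.aN, Data.aN'].all fun f => !(s == f) && !(nmul s Data.cN == f)) = true) ∧
    (((List.range 192).all fun m => !(Data.maskB.testBit m) ||
      (List.range 192).any fun p => Data.maskA.testBit p && cm p m &&
        (List.range 192).any fun q => Data.maskA.testBit q && cm q m && nmul p q == Data.zN) = true) ∧
    (((List.range 192).all fun p =>
      !((Data.maskA.testBit p || Data.maskC.testBit p) && cm p Data.bN) ||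
      (List.range 192).all fun q =>
        !((Data.maskA.testBit q || Data.maskC.testBit q) && cm q Data.bN) || !(nmul p q == Data.bN)) = true) := by
  decide +kernel

lemma exists_comm_z :
    ∃ g h : M, g * c₀ = c₀ * g ∧ h * c₀ = c₀ * h ∧ g * h * g⁻¹ * h⁻¹ = z := by
  obtain ⟨g, hg⟩ := exists_range config_checks.1
  rw [Bool.and_eq_true] at hg
  obtain ⟨h, hh⟩ := exists_range hg.2
  rw [Bool.and_eq_true, beq_iff_eq, ncomm_val, ← z_val, val_inj] at hh
  refine ⟨g, h, ?_, ?_, hh.2⟩
  · rw [← cm_iff, c₀_val]; exact hg.1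
  · rw [← cm_iff, c₀_val]; exact hh.1

lemma comm_cases {g h : M} (hg : g * c₀ = c₀ * g) (hh : h * c₀ = c₀ * h) :
    g * h * g⁻¹ * h⁻¹ = 1 ∨ g * h * g⁻¹ * h⁻¹ = z := by
  rw [← cm_iff, c₀_val] at hg hh
  have h1 := all_range config_checks.2.1 g
  rw [hg, Bool.not_true, Bool.false_or] at h1
  have h2 := all_range h1 h
  simp only [hh, Bool.not_true, Bool.false_or, Bool.or_eq_true, beq_iff_eq, ncomm_val,
    ← z_val, ← one_val, val_inj] at h2
  exact h2

lemma a_comm_c₀ {w : M} (hw : IsA w) : w * c₀ * w⁻¹ * c₀⁻¹ = 1 ∨ w * c₀ * w⁻¹ * c₀⁻¹ = z := by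
  rw [IsA] at hw
  have h1 := all_range config_checks.2.2.1 w
  simp only [hw, Bool.not_true, Bool.false_or, Bool.or_eq_true, Bool.and_eq_true, beq_iff_eq,
    ← c₀_val, ncomm_val, ← z_val, ← one_val, val_inj] at h1
  exact h1.1

lemma a_comm_a {w v : M} (hw : IsA w) (hv : IsA v) : w * v = v * w := by
  rw [IsA] at hw hv
  have h1 := all_range config_checks.2.2.1 w
  rw [hw, Bool.not_true, Bool.false_or, Bool.and_eq_true] at h1
  have h2 := all_range h1.2 v
  rw [hv, Bool.not_true, Bool.false_or, cm_iff] at h2
  exact h2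

lemma exists_a_comm_z : ∃ w : M, IsA w ∧ w * c₀ * w⁻¹ * c₀⁻¹ = z := by
  obtain ⟨w, hw⟩ := exists_range config_checks.2.2.2.1
  rw [Bool.and_eq_true, beq_iff_eq, ← c₀_val, ncomm_val, ← z_val, val_inj] at hw
  exact ⟨w, hw.1, hw.2⟩

lemma card_za : Nat.card {w : M // w = z ∨ IsA w} = 7 :=
  (card_filter _ _ (fun w => by simp only [IsA, Bool.or_eq_true, beq_iff_eq, ← z_val, val_inj])).trans
    config_checks.2.2.2.2.1

lemma card_zab : Nat.card {w : M // w = z ∨ IsA w ∨ IsB w} = 31 :=
  (card_filter _ _ (fun w => by
    simp only [IsA, IsB, Bool.or_eq_true, beq_iff_eq, ← z_val, val_inj, or_assoc])).trans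
    config_checks.2.2.2.2.2.1

lemma exists_conj_a₁ : ∃ g : M, g * c₀ = c₀ * g ∧ g * a₀ * g⁻¹ = a₁ := by
  obtain ⟨g, hg⟩ := exists_range config_checks.2.2.2.2.2.2.1
  rw [Bool.and_eq_true, beq_iff_eq, ← a₀_val, ← a₁_val, ← mul_val, ← mul_val, val_inj,
    ← c₀_val, cm_iff] at hg
  exact ⟨g, hg.1, by rw [hg.2, mul_inv_cancel_right]⟩

lemma ab_in_cent_c₀ {m : M} (hm : m * c₀ = c₀ * m) (h : IsA m ∨ IsB m) : m = a₀ ∨ m = a₁ := by
  rw [← cm_iff, c₀_val] at hm
  have h1 := all_range config_checks.2.2.2.2.2.2.2.1 m
  rw [IsA, IsB] at h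
  have hab : (Data.maskA.testBit m.val || Data.maskB.testBit m.val) = true := by simpa using h
  simp only [hm, hab, Bool.and_self, Bool.not_true, Bool.false_or, Bool.or_eq_true, beq_iff_eq,
    ← a₀_val, ← a₁_val, val_inj] at h1
  exact h1

lemma exists_outer : ∃ s : M, s * c₀ = c₀ * s ∧ s * s = 1 ∧
    ∀ f ∈ [1, z, a₀, a₁], s ≠ f ∧ s * c₀ ≠ f := by
  obtain ⟨s, hs⟩ := exists_range config_checks.2.2.2.2.2.2.2.2.1
  simp only [Bool.and_eq_true, List.all_cons, List.all_nil, Bool.and_true, Bool.not_eq_true',
    beq_eq_false_iff_ne, beq_iff_eq, ← c₀_val, cm_iff, ← mul_val, ← z_val, ← a₀_val, ← a₁_val,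
    ← one_val, val_inj, ne_eq] at hs
  refine ⟨s, hs.1.1, hs.1.2, ?_⟩
  simp only [List.mem_cons, List.not_mem_nil, or_false, forall_eq_or_imp, forall_eq]
  tauto

lemma exists_a_pair {m : M} (hm : IsB m) :
    ∃ p q : M, IsA p ∧ IsA q ∧ p * m = m * p ∧ q * m = m * q ∧ p * q = z := by
  rw [IsB] at hm
  have h1 := all_range config_checks.2.2.2.2.2.2.2.2.2.1 m
  rw [hm, Bool.not_true, Bool.false_or] at h1
  obtain ⟨p, hp⟩ := exists_range h1
  simp only [Bool.and_eq_true] at hp
  obtain ⟨q, hq⟩ := exists_range hp.2
  simp only [Bool.and_eq_true, beq_iff_eq, ← mul_val, ← z_val, val_inj, cm_iff] at hp hq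
  exact ⟨p, q, hp.1.1, hq.1.1, hp.1.2, hq.1.2, hq.2⟩

lemma no_pair_b₀ {p q : M} (hp : IsA p ∨ IsC p) (hq : IsA q ∨ IsC q) (hpb : p * b₀ = b₀ * p)
    (hqb : q * b₀ = b₀ * q) : p * q ≠ b₀ := by
  rw [← cm_iff, b₀_val] at hpb hqb
  intro he
  rw [← val_inj, mul_val, b₀_val] at he
  have h1 := all_range config_checks.2.2.2.2.2.2.2.2.2.2 p
  have hp' : (Data.maskA.testBit p.val || Data.maskC.testBit p.val) = true := by simpa [IsA, IsC] using hp
  have hq' : (Data.maskA.testBit q.val || Data.maskC.testBit q.val) = true := by simpa [IsA, IsC] using hq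
  simp only [hp', hpb, Bool.and_self, Bool.not_true, Bool.false_or] at h1
  have h2 := all_range h1 q
  simp [hq', hqb, he] at h2

end M

end Cfsg.Agent.H86.MTwelve
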