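import Cfsg.Agent.H25.InvolutionTransfer

/-!
Subgroups of index two inside a subgroup, obtained by transfer.
-/

set_option autoImplicit false

namespace Cfsg.Agent.H86.MTwelve

open Subgroup

variable {G : Type*} [Group G]

/-- `L'` is a subgroup of index two of `L`, described by parity. -/
structure IsHalf (L L' : Subgroup G) : Prop where
  le : L' ≤ L
  mul_iff : ∀ a ∈ L, ∀ b ∈ L, (a * b ∈ L' ↔ (a ∈ L' ↔ b ∈ L'))
  card : 2 * Nat.card L' = Nat.card L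

namespace IsHalf

variable {L L' : Subgroup G}

lemma conj_mem (h : IsHalf L L') {g : G} (hg : g ∈ L) {x : G} (hx : x ∈ L') : g * x * g⁻¹ ∈ L' := by
  rw [h.mul_iff _ (mul_mem hg (h.le hx)) _ (inv_mem hg), h.mul_iff _ hg _ (h.le hx), inv_mem_iff]
  simp [hx]

lemma commutator_mem (h : IsHalf L L') {a b : G} (ha : a ∈ L) (hb : b ∈ L) :
    a * b * a⁻¹ * b⁻¹ ∈ L' := by
  rw [h.mul_iff _ (mul_mem (mul_mem ha hb) (inv_mem ha)) _ (inv_mem hb),
    h.mul_iff _ (mul_mem ha hb) _ (inv_mem ha), h.mul_iff _ ha _ hb, inv_mem_iff, inv_mem_iff]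
  tauto

lemma inf (h : IsHalf L L') {P : Subgroup G} [Finite P] (hP : P ≤ L) {u : G} (hu : u ∈ P) (hu' : u ∉ L') :
    IsHalf P (P ⊓ L') := by
  have hiff : ∀ a ∈ P, ∀ b ∈ P, (a * b ∈ P ⊓ L' ↔ (a ∈ P ⊓ L' ↔ b ∈ P ⊓ L')) := by
    intro a ha b hb
    simp only [Subgroup.mem_inf, ha, hb, mul_mem ha hb, true_and]
    exact h.mul_iff a (hP ha) b (hP hb)
  refine ⟨inf_le_left, hiff, ?_⟩
  have h2 : ((P ⊓ L').subgroupOf P).index = 2 := by
    rw [index_eq_two_iff]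
    refine ⟨⟨u, hu⟩, fun b => ?_⟩
    rw [mem_subgroupOf, mem_subgroupOf, Subgroup.coe_mul, hiff _ b.2 _ hu]
    have : u ∉ P ⊓ L' := fun hh => hu' hh.2
    unfold Xor
    tauto
  have := card_mul_index ((P ⊓ L').subgroupOf P)
  rw [h2, Nat.card_congr (subgroupOfEquivOfLe inf_le_left).toEquiv] at this
  omega

end IsHalf

/-- Thompson transfer inside a subgroup `L`. -/
theorem exists_half [Finite G] (L P Q : Subgroup G) (hPL : P ≤ L) (hP : IsPGroup 2 P)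
    (hodd : ¬ 2 ∣ P.relIndex L) (hQP : Q ≤ P) (hQ : 2 * Nat.card Q = Nat.card P) (u : G)
    (hu : orderOf u = 2) (huP : u ∈ P) (huQ : u ∉ Q) (hconj : ∀ g ∈ L, g * u * g⁻¹ ∉ Q) :
    ∃ L' : Subgroup G, IsHalf L L' ∧ u ∉ L' := by
  haveI : Fact (Nat.Prime 2) := ⟨Nat.prime_two⟩
  let P' : Sylow 2 L := IsPGroup.toSylow (hP.comap_subtype (H := P) (K := L)) hodd
  have hP' : (P' : Subgroup L) = P.subgroupOf L := IsPGroup.toSylow_coe _ _
  have hQi : (Q.subgroupOf L).relIndex (P' : Subgroup L) = 2 := by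
    rw [hP', relIndex_subgroupOf hPL]
    have h := card_mul_index (Q.subgroupOf P)
    rw [Nat.card_congr (subgroupOfEquivOfLe hQP).toEquiv, ← hQ, mul_comm 2] at h
    exact Nat.eq_of_mul_eq_mul_left (Nat.card_pos (α := Q)) h
  obtain ⟨M, hM, hMi, huM⟩ | ⟨g, hg⟩ := H25.thompson_transfer P' (Q.subgroupOf L)
    (by rw [hP']; exact fun x hx => hQP hx) hQi ⟨u, hPL huP⟩ (by rw [orderOf_mk]; exact hu)
    (by rw [hP']; exact huP) (fun hh => huQ hh)
  swap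
  · exact absurd hg (hconj g g.2)
  have hmem : ∀ {a : G} (ha : a ∈ L), a ∈ M.map L.subtype ↔ (⟨a, ha⟩ : L) ∈ M := fun {a} ha =>
    ⟨fun ⟨k, hk, he⟩ => (show k = ⟨a, ha⟩ from Subtype.ext he) ▸ hk, fun hk => ⟨_, hk, rfl⟩⟩
  refine ⟨M.map L.subtype, ⟨map_subtype_le M, fun a ha b hb => ?_, ?_⟩, fun hh => huM ((hmem _).1 hh)⟩
  · rw [hmem ha, hmem hb, hmem (mul_mem ha hb)]
    exact mul_mem_iff_of_index_two hMi (a := ⟨a, ha⟩) (b := ⟨b, hb⟩)
  · rw [card_map_of_injective L.subtype_injective, ← card_mul_index M, hMi, mul_comm]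

end Cfsg.Agent.H86.MTwelve
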