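import Cfsg.Agent.H86.MTwelve.Split
import Cfsg.Agent.H86.MTwelve.Half
import Cfsg.Agent.S3277
import Cfsg.Prelude.Def_Sporadic

/-!
The order of the group when the class of 24 fuses to the centre.
-/

set_option autoImplicit false

namespace Cfsg.Agent.H86.MTwelve

open Subgroup

namespace M

lemma four_checks :
    closedMask (2 ^ 0 + 2 ^ Data.zN + 2 ^ Data.aN + 2 ^ Data.aN') = true ∧
    ((List.range 192).filter (2 ^ 0 + 2 ^ Data.zN + 2 ^ Data.aN + 2 ^ Data.aN').testBit).length = 4 ∧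
    ((List.range 192).all fun m => !((2 ^ 0 + 2 ^ Data.zN + 2 ^ Data.aN + 2 ^ Data.aN').testBit m) ||
      (m == 0 || m == Data.zN || m == Data.aN || m == Data.aN')) = true ∧
    ((List.range 192).filter fun w => Data.maskB.testBit w).length = 24 := by
  decide +kernel

/-- The four-group. -/
def FM : Subgroup M := maskSub _ four_checks.1

lemma card_FM : Nat.card FM = 4 := card_maskSub.trans four_checks.2.1

lemma mem_FM {m : M} (h : m ∈ FM) : m = 1 ∨ m = z ∨ m = a₀ ∨ m = a₁ := by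
  have h' := all_range four_checks.2.2.1 m
  rw [FM, mem_maskSub] at h
  rw [h, Bool.not_true, Bool.false_or] at h'
  simp only [Bool.or_eq_true, beq_iff_eq, ← one_val, ← z_val,
    ← a₀_val, ← a₁_val, val_inj] at h'
  tauto

lemma card_B : Nat.card {w : M // IsB w} = 24 :=
  (card_filter IsB _ (fun _ => Iff.rfl)).trans four_checks.2.2.2

end M

variable {G : Type*} [Group G]

lemma unique_invol {w x y : G} (hx : orderOf x = 2) (hy : orderOf y = 2) (hxw : x ∈ zpowers w)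
    (hyw : y ∈ zpowers w) : x = y := by
  obtain ⟨i, rfl⟩ := hxw
  obtain ⟨j, rfl⟩ := hyw
  simp only at hx hy ⊢
  have key : ∀ i : ℤ, orderOf (w ^ i) = 2 → ¬ (orderOf w : ℤ) ∣ i ∧ (orderOf w : ℤ) ∣ 2 * i := by
    intro i hi
    rw [two_iff, ← zpow_add, ← two_mul, ← orderOf_dvd_iff_zpow_eq_one, ne_eq,
      ← orderOf_dvd_iff_zpow_eq_one] at hi
    exact ⟨hi.2, hi.1⟩
  obtain ⟨hi1, a, ha⟩ := key i hx
  obtain ⟨hj1, b, hb⟩ := key j hy
  rw [← orderOf_dvd_sub_iff_zpow_eq_zpow]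
  rcases Int.even_or_odd a with ⟨a', rfl⟩ | ⟨a', rfl⟩
  · exact absurd ⟨a', by linarith⟩ hi1
  rcases Int.even_or_odd b with ⟨b', rfl⟩ | ⟨b', rfl⟩
  · exact absurd ⟨b', by linarith⟩ hj1
  exact ⟨a' - b', by linarith⟩

variable [Finite G]

namespace Emb

variable {t : G} (E : Emb t) (ht : orderOf t = 2) [IsSimpleGroup G] (hG : ¬ ∀ a b : G, a * b = b * a)
include E ht hG

lemma isConj_t_iff' (m : M) : IsConj t (E.hom m) ↔ (m = M.z ∨ M.IsA m ∨ M.IsB m) := by
  rw [E.isConj_t_iff ht hG]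
  have := E.isConj_b₀ ht hG
  tauto

lemma isConj_x_iff' (m : M) : IsConj (E.hom M.c₀) (E.hom m) ↔ M.IsC m := by
  rw [E.isConj_x_iff ht hG]
  have := E.isConj_b₀ ht hG
  tauto

/-- Twelve conjugates of the centre attached to each involution of the class of 24. -/
lemma exists_outer {b : M} (hb : M.IsB b) : ∃ f : Fin 12 → G, Function.Injective f ∧
    ∀ i, IsConj t (f i) ∧ ¬ f i * t = t * f i ∧ E.hom b ∈ zpowers (f i * t) := by
  have hconj := (E.isConj_t_iff' ht hG b).2 (Or.inr (Or.inr hb))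
  have hb2 := two_of_isConj hconj ht
  obtain ⟨g, hg⟩ := isConj_iff.1 hconj
  obtain ⟨m, hm⟩ := (E.conj g).mem_iff.1 (show t * (g * t * g⁻¹) = g * t * g⁻¹ * t by
    rw [hg]; exact (E.comm b).symm)
  have hz : (E.conj g).hom M.z = E.hom b := by
    rw [(E.conj g).map_z (by rw [hg]; exact (two_iff.1 hb2).2)]; exact hg
  have hm2 := (E.conj g).two_hom.1 ((congrArg orderOf hm).trans ht)
  have hcard : Nat.card ↥(centralizer ({m} : Set M)) = 8 := by
    rw [← (E.conj g).card_inf_cent, hm, inf_comm, hg, E.card_inf_cent, M.card_cent_b hb]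
  have hmB : M.IsB m := by
    rcases (M.invol_iff m).1 hm2 with h | h | h | h
    · exfalso
      rw [h, hz] at hm
      exact ((M.disjoint_classes _).1 (E.inj (hm.trans (E.hom_z ht).symm))).2.1 hb
    · rw [M.card_cent_a h] at hcard; omega
    · exact h
    · rw [M.card_cent_c h] at hcard; omega
  have hY : Nat.card {y : M // (M.IsA y ∨ M.IsB y) ∧ ¬ y * m = m * y ∧ M.z ∈ zpowers (y * m)} = 12 :=
    M.count_outer hmB
  let e := (Finite.equivFinOfCardEq hY).symm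
  refine ⟨fun i => (E.conj g).hom (e i).1, (E.conj g).inj.comp (Subtype.val_injective.comp e.injective),
    fun i => ?_⟩
  obtain ⟨hy, hnc, hp⟩ := (e i).2
  refine ⟨?_, ?_, ?_⟩
  · exact ((E.isConj_t_iff' ht hG _).2 (Or.inr hy)).trans (isConj_iff.2 ⟨g, rfl⟩)
  · intro h
    exact hnc ((E.conj g).comm_hom.1 (by rw [hm]; exact h))
  · have h := mem_map_of_mem (E.conj g).hom hp
    rw [MonoidHom.map_zpowers, map_mul, hz, hm] at h
    exact h

/-- The class of the centre is large. -/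
lemma class_large : 319 ≤ Nat.card {v : G // IsConj t v} := by
  classical
  choose f hf using fun b : {b : M // M.IsB b} => E.exists_outer ht hG b.2
  let Φ : {w : M // w = M.z ∨ M.IsA w ∨ M.IsB w} ⊕ ({b : M // M.IsB b} × Fin 12) → {v : G // IsConj t v} :=
    Sum.elim (fun w => ⟨E.hom w.1, (E.isConj_t_iff' ht hG _).2 w.2⟩)
      (fun p => ⟨f p.1 p.2, ((hf p.1).2 p.2).1⟩)
  have hinj : Function.Injective Φ := by
    rintro (w | ⟨b, i⟩) (w' | ⟨b', i'⟩) h <;> have h' := congrArg Subtype.val h <;>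
      simp only [Φ, Sum.elim_inl, Sum.elim_inr] at h'
    · rw [Subtype.ext (E.inj h')]
    · exact absurd (h' ▸ E.comm w.1) ((hf b').2 i').2.1
    · exact absurd (h'.symm ▸ E.comm w'.1) ((hf b).2 i).2.1
    · have h1 := ((hf b).2 i).2.2
      have h2 := ((hf b').2 i').2.2
      rw [← h'] at h2
      have hb : b = b' := Subtype.ext (E.inj (unique_invol
        (two_of_isConj ((E.isConj_t_iff' ht hG _).2 (Or.inr (Or.inr b.2))) ht)
        (two_of_isConj ((E.isConj_t_iff' ht hG _).2 (Or.inr (Or.inr b'.2))) ht) h1 h2))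
      subst hb
      rw [(hf b).1 h']
  have h := Nat.card_le_card_of_injective Φ hinj
  rw [Nat.card_sum, Nat.card_prod, M.card_zab, M.card_B, Nat.card_fin] at h
  omega

/-- The order formula in the fused case. -/
lemma order_formula : Nat.card G = Nat.card E.cx * 240 + 192 *
    Nat.card {p : G × G // IsConj t p.1 ∧ IsConj (E.hom M.c₀) p.2 ∧ E.hom M.c₀ ∈ zpowers (p.1 * p.2)} := by
  have h := Cfsg.Agent.S0213.result t (E.hom M.c₀) ht (E.two_c₀ ht) (E.not_isConj_c ht)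
    (fun v hv => E.class_cases ht hG hv)
  rw [E.pairs_eq ht (E.isConj_t_iff' ht hG) (E.isConj_x_iff' ht hG), M.count_z_fused, E.finite_cent] at h
  exact h

/-- The centraliser of `c₀` is not small. -/
lemma not_small (hK : Nat.card E.cx ≤ 48) (hn : Nat.card {v : G // v ∈ E.cx ∧ IsConj t v} ≤ 3) :
    False := by
  have hp : Nat.card {p : G × G // IsConj t p.1 ∧ IsConj (E.hom M.c₀) p.2 ∧
      E.hom M.c₀ ∈ zpowers (p.1 * p.2)} ≤ 3 * 48 := by
    have hmem : ∀ p : {p : G × G // IsConj t p.1 ∧ IsConj (E.hom M.c₀) p.2 ∧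
        E.hom M.c₀ ∈ zpowers (p.1 * p.2)}, p.1.1 ∈ E.cx ∧ p.1.2 ∈ E.cx := fun p =>
      H73.Janko.mem_centralizer_of_mem_zpowers (two_iff.1 (two_of_isConj p.2.1 ht)).1
        (two_iff.1 (two_of_isConj p.2.2.1 (E.two_c₀ ht))).1 (two_iff.1 (E.two_c₀ ht)).1 p.2.2.2
    have h := Nat.card_le_card_of_injective
      (fun p => ((⟨p.1.1, (hmem p).1, p.2.1⟩, ⟨p.1.2, (hmem p).2⟩) :
        {v : G // v ∈ E.cx ∧ IsConj t v} × E.cx))
      (fun p q h => Subtype.ext (Prod.ext (congrArg (fun r => r.1.1) h) (congrArg (fun r => r.2.1) h)))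
    rw [Nat.card_prod] at h
    exact h.trans (Nat.mul_le_mul hn hK)
  have h1 := E.order_formula ht hG
  have h2 := card_class t
  rw [E.finite_cent] at h2
  have h3 := E.class_large ht hG
  omega

lemma conj_cases {v : G} (hv : v ∈ E.cx) (h : IsConj t v) :
    ∃ k ∈ E.cx, k * v * k⁻¹ = t ∨ k * v * k⁻¹ = E.hom M.a₀ ∨ k * v * k⁻¹ = E.hom M.a₁ := by
  haveI : Fact (Nat.Prime 2) := ⟨Nat.prime_two⟩
  obtain ⟨P, hP⟩ := E.exists_sylow_cx ht
  have hp : IsPGroup 2 (zpowers (⟨v, hv⟩ : E.cx)) :=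
    IsPGroup.of_card (n := 1) (by rw [Nat.card_zpowers, orderOf_mk, two_of_isConj h ht]; rfl)
  obtain ⟨P', hP'⟩ := hp.exists_le_sylow
  obtain ⟨g, hg⟩ := MulAction.exists_smul_eq E.cx P' P
  have hgv : g * ⟨v, hv⟩ * g⁻¹ ∈ P := by
    rw [← hg]
    exact smul_mem_pointwise_smul _ (MulAut.conj g) _ (hP' (mem_zpowers _))
  exact ⟨g, g.2, E.isConj_sx ht hG ((hP _).1 hgv) (h.trans (isConj_iff.2 ⟨g, rfl⟩))⟩

/-- The configuration when the four-group fuses in the centraliser of `c₀`. -/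
lemma exists_fours (hiso : ¬ ∀ k ∈ E.cx, k * t * k⁻¹ ∈ E.sx → k * t * k⁻¹ = t) :
    (∃ k ∈ E.cx, k * t * k⁻¹ = E.hom M.a₀) ∧ ∃ k ∈ E.cx, k * t * k⁻¹ = E.hom M.a₁ := by
  push Not at hiso
  obtain ⟨k, hk, hks, hne⟩ := hiso
  obtain ⟨g, hgc, hga⟩ := M.exists_conj_a₁
  have hg := E.mem_cx hgc
  have hga' : E.hom g * E.hom M.a₀ * (E.hom g)⁻¹ = E.hom M.a₁ := by
    rw [← map_inv, ← map_mul, ← map_mul, hga]
  rcases E.isConj_sx ht hG hks (isConj_iff.2 ⟨k, rfl⟩) with h | h | h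
  · exact absurd h hne
  · exact ⟨⟨k, hk, h⟩, E.hom g * k, mul_mem hg hk, by rw [← hga', ← h]; group⟩
  · exact ⟨⟨(E.hom g)⁻¹ * k, mul_mem (inv_mem hg) hk, by
      have : E.hom M.a₀ = (E.hom g)⁻¹ * E.hom M.a₁ * E.hom g := by rw [← hga']; group
      rw [this, ← h]; group⟩, k, hk, h⟩

/-- The second section of the centraliser of `c₀`. -/
lemma exists_K₁ (hiso : ¬ ∀ k ∈ E.cx, k * t * k⁻¹ ∈ E.sx → k * t * k⁻¹ = t) :
    ∃ K₀ K₁ : Subgroup G, IsHalf E.cx K₀ ∧ E.hom M.c₀ ∉ K₀ ∧ IsHalf K₀ K₁ ∧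
      (∀ k ∈ E.cx, ∀ v ∈ K₁, k * v * k⁻¹ ∈ K₁) ∧ M.FM.map E.hom = E.sx ⊓ K₁ := by
  haveI : Fact (Nat.Prime 2) := ⟨Nat.prime_two⟩
  obtain ⟨⟨k₀, hk₀, hk₀a⟩, k₁, hk₁, hk₁a⟩ := E.exists_fours ht hG hiso
  have hxcx : E.hom M.c₀ ∈ E.cx := mem_centralizer_singleton_iff.2 rfl
  have hxsx : E.hom M.c₀ ∈ E.sx := ⟨M.c₀, mem_centralizer_singleton_iff.2 rfl, rfl⟩
  have hxc : ∀ k ∈ E.cx, k * E.hom M.c₀ = E.hom M.c₀ * k := fun k hk => mem_centralizer_singleton_iff.1 hk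
  have hx2 := two_iff.1 (E.two_c₀ ht)
  have hsxp : IsPGroup 2 E.sx := IsPGroup.of_card (n := 4) (by rw [E.card_sx]; norm_num)
  obtain ⟨P, hP⟩ := E.exists_sylow_cx ht
  have hodd : ¬ 2 ∣ E.sx.relIndex E.cx := by
    have : (P : Subgroup E.cx) = E.sx.subgroupOf E.cx := Subgroup.ext fun g => hP g
    rw [relIndex, ← this]
    exact P.not_dvd_index
  obtain ⟨K₀, hK₀, hxK₀⟩ := exists_half E.cx E.sx (M.Q1.map E.hom) E.sx_le hsxp hodd
    (map_mono fun m hm => mem_centralizer_singleton_iff.2 (M.Q1_comm hm))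
    (by rw [card_map_of_injective E.inj, M.card_Q1, E.card_sx]) (E.hom M.c₀) (E.two_c₀ ht) hxsx
    (fun h => M.c₀_notMem_Q1 ((mem_map_iff_mem E.inj).1 h))
    (fun g hg h => M.c₀_notMem_Q1 ((mem_map_iff_mem E.inj).1 (by
      rwa [hxc g hg, mul_inv_cancel_right] at h)))
  -- the four-group lies in `K₀`
  have hFsub : ∀ L : Subgroup G, (∀ k ∈ E.cx, ∀ v ∈ L, k * v * k⁻¹ ∈ L) → t ∈ L → M.FM.map E.hom ≤ L := by
    rintro L hL htL _ ⟨m, hm, rfl⟩
    rcases M.mem_FM hm with rfl | rfl | rfl | rfl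
    · rw [map_one]; exact one_mem L
    · rwa [E.hom_z ht]
    · rw [← hk₀a]; exact hL k₀ hk₀ t htL
    · rw [← hk₁a]; exact hL k₁ hk₁ t htL
  have hnorm₀ : ∀ k ∈ E.cx, ∀ v ∈ K₀, k * v * k⁻¹ ∈ K₀ := fun k hk v hv => hK₀.conj_mem hk hv
  obtain ⟨g, h, hgc, hhc, hz⟩ := M.exists_comm_z
  have hcomm : E.hom g * E.hom h * (E.hom g)⁻¹ * (E.hom h)⁻¹ = t := by
    simp only [← map_inv, ← map_mul, hz, E.hom_z ht]
  have ht₀ : t ∈ K₀ := hcomm ▸ hK₀.commutator_mem (E.mem_cx hgc) (E.mem_cx hhc)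
  have hF₀ := hFsub K₀ hnorm₀ ht₀
  have hFsx : M.FM.map E.hom ≤ E.sx := map_mono fun m hm => by
    rw [mem_centralizer_singleton_iff]
    rcases M.mem_FM hm with rfl | rfl | rfl | rfl
    · rw [one_mul, mul_one]
    · exact (M.comm_z M.c₀).symm
    · exact M.a₀_comm_c₀
    · exact M.a₁_comm_c₀
  have hP₀ := hK₀.inf E.sx_le hxsx hxK₀
  set P₀ := E.sx ⊓ K₀ with hP₀def
  have hP₀8 : Nat.card P₀ = 8 := by have := hP₀.card; rw [E.card_sx] at this; omega
  have hodd₀ : ¬ 2 ∣ P₀.relIndex K₀ := by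
    have h1 := card_mul_index (P₀.subgroupOf K₀)
    have h2 := card_mul_index (E.sx.subgroupOf E.cx)
    rw [Nat.card_congr (subgroupOfEquivOfLe (inf_le_right : P₀ ≤ K₀)).toEquiv, hP₀8] at h1
    rw [Nat.card_congr (subgroupOfEquivOfLe E.sx_le).toEquiv, E.card_sx, ← hK₀.card, ← h1] at h2
    have : (E.sx.subgroupOf E.cx).index = (P₀.subgroupOf K₀).index := by omega
    rw [relIndex, ← this]
    exact hodd
  -- an involution outside the four-group
  obtain ⟨s, hsc, hss, hsF⟩ := M.exists_outer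
  obtain ⟨y, hyc, hyy, hyF, hyK⟩ : ∃ y : M, y * M.c₀ = M.c₀ * y ∧ y * y = 1 ∧
      (y ≠ 1 ∧ y ≠ M.z ∧ y ≠ M.a₀ ∧ y ≠ M.a₁) ∧ E.hom y ∈ K₀ := by
    simp only [List.mem_cons, List.not_mem_nil, or_false, forall_eq_or_imp, forall_eq] at hsF
    by_cases hs : E.hom s ∈ K₀
    · exact ⟨s, hsc, hss, ⟨hsF.1.1, hsF.2.1.1, hsF.2.2.1.1, hsF.2.2.2.1⟩, hs⟩
    · refine ⟨s * M.c₀, ?_, ?_, ⟨hsF.1.2, hsF.2.1.2, hsF.2.2.1.2, hsF.2.2.2.2⟩, ?_⟩
      · rw [hsc, mul_assoc, hsc]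
      · have hcc := ((M.invol_iff M.c₀).2 (by simp [M.isC_c₀])).1
        calc s * M.c₀ * (s * M.c₀) = s * (M.c₀ * s) * M.c₀ := by group
          _ = (s * s) * (M.c₀ * M.c₀) := by rw [← hsc]; group
          _ = 1 := by rw [hss, hcc, one_mul]
      · rw [map_mul, hK₀.mul_iff _ (E.mem_cx hsc) _ hxcx]
        simp [hs, hxK₀]
  have hy2 : orderOf (E.hom y) = 2 := E.two_hom.2 ⟨hyy, hyF.1⟩
  have hysx : E.hom y ∈ E.sx := mem_map_of_mem _ (mem_centralizer_singleton_iff.2 hyc)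
  have hyt : ¬ IsConj t (E.hom y) := fun h => by
    rcases E.isConj_sx ht hG hysx h with h' | h' | h'
    · exact hyF.2.1 (E.inj (h'.trans (E.hom_z ht).symm))
    · exact hyF.2.2.1 (E.inj h')
    · exact hyF.2.2.2 (E.inj h')
  have hconj : ∀ g : G, g * E.hom y * g⁻¹ ∉ M.FM.map E.hom := by
    rintro g ⟨m, hm, hme⟩
    have hc : IsConj (E.hom y) (E.hom m) := isConj_iff.2 ⟨g, hme.symm⟩
    have hm2 := E.two_hom.1 (two_of_isConj hc hy2)
    refine hyt (((E.isConj_t_iff' ht hG m).2 ?_).trans hc.symm)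
    rcases M.mem_FM hm with rfl | rfl | rfl | rfl
    · exact absurd rfl hm2.2
    · exact Or.inl rfl
    · exact Or.inr (Or.inl M.isA_a₀)
    · exact Or.inr (Or.inl M.isA_a₁)
  obtain ⟨K₁, hK₁, hyK₁⟩ := exists_half K₀ P₀ (M.FM.map E.hom) inf_le_right (hsxp.to_le inf_le_left) hodd₀
    (le_inf hFsx hF₀) (by rw [card_map_of_injective E.inj, M.card_FM, hP₀8]) (E.hom y) hy2 ⟨hysx, hyK⟩
    (fun h => hconj 1 (by simpa using h)) (fun g _ => hconj g)
  have hnorm₁ : ∀ k ∈ E.cx, ∀ v ∈ K₁, k * v * k⁻¹ ∈ K₁ := by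
    intro k hk v hv
    by_cases hk' : k ∈ K₀
    · exact hK₁.conj_mem hk' hv
    · have hk'' : k * E.hom M.c₀ ∈ K₀ := by rw [hK₀.mul_iff _ hk _ hxcx]; simp [hk', hxK₀]
      have h1 := hK₁.conj_mem hk'' hv
      have hv' := hxc v (hK₀.le (hK₁.le hv))
      have : k * E.hom M.c₀ * v * (k * E.hom M.c₀)⁻¹ = k * v * k⁻¹ := by
        rw [mul_inv_rev, mul_assoc k, ← hv']; group
      rwa [this] at h1
  have ht₁ : t ∈ K₁ := by
    have hgg : ∀ v ∈ E.sx, ∃ v' ∈ K₀, v' = v ∨ v' = v * E.hom M.c₀ := fun v hv => by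
      by_cases hv' : v ∈ K₀
      · exact ⟨v, hv', Or.inl rfl⟩
      · exact ⟨_, by rw [hK₀.mul_iff _ (E.sx_le hv) _ hxcx]; simp [hv', hxK₀], Or.inr rfl⟩
    have key : ∀ a ∈ E.cx, ∀ b ∈ E.cx, a * b * a⁻¹ * b⁻¹ = (a * E.hom M.c₀) * b * (a * E.hom M.c₀)⁻¹ * b⁻¹ ∧
        a * b * a⁻¹ * b⁻¹ = a * (b * E.hom M.c₀) * a⁻¹ * (b * E.hom M.c₀)⁻¹ := by
      intro a ha b hb
      constructor
      · rw [mul_inv_rev, mul_assoc a (E.hom M.c₀), ← hxc b hb]; group
      · rw [mul_inv_rev]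
        calc a * b * a⁻¹ * b⁻¹ = a * b * (E.hom M.c₀ * a⁻¹) * (E.hom M.c₀)⁻¹ * b⁻¹ := by
              rw [← hxc _ (inv_mem ha)]; group
          _ = _ := by group
    obtain ⟨g', hg', hge⟩ := hgg _ (mem_map_of_mem E.hom (mem_centralizer_singleton_iff.2 hgc))
    obtain ⟨h', hh', hhe⟩ := hgg _ (mem_map_of_mem E.hom (mem_centralizer_singleton_iff.2 hhc))
    have hg'c := hK₀.le hg'
    have hh'c := hK₀.le hh'
    have he : g' * h' * g'⁻¹ * h'⁻¹ = t := by
      rw [← hcomm]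
      rcases hge with rfl | rfl <;> rcases hhe with rfl | rfl
      · rfl
      · exact ((key _ hg'c _ (E.mem_cx hhc)).2).symm
      · exact ((key _ (E.mem_cx hgc) _ hh'c).1).symm
      · rw [(key _ (E.mem_cx hgc) _ (E.mem_cx hhc)).2, (key _ (E.mem_cx hgc) _ hh'c).1]
    exact he ▸ hK₁.commutator_mem hg' hh'
  refine ⟨K₀, K₁, hK₀, hxK₀, hK₁, hnorm₁, ?_⟩
  have h1 : Nat.card ↥(P₀ ⊓ K₁) = 4 := by
    have := (hK₁.inf (inf_le_right : P₀ ≤ K₀) ⟨hysx, hyK⟩ hyK₁).card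
    have e1 : Nat.card P₀ = Nat.card ↥(E.sx ⊓ K₀) := rfl
    have e2 : Nat.card ↥(P₀ ⊓ K₁) = Nat.card ↥(E.sx ⊓ K₀ ⊓ K₁) := rfl
    omega
  have h2 : P₀ ⊓ K₁ = E.sx ⊓ K₁ := by
    rw [hP₀def, inf_assoc, inf_eq_right.2 hK₁.le]
  rw [← h2]
  refine eq_of_le_of_card_ge (le_inf (le_inf hFsx hF₀) (hFsub K₁ hnorm₁ ht₁)) ?_
  rw [h1, card_map_of_injective E.inj, M.card_FM]

/-- The order of the group. -/
theorem card_eq : Nat.card G = 95040 := by
  classical
  have hx2 := two_iff.1 (E.two_c₀ ht)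
  by_cases hiso : ∀ k ∈ E.cx, k * t * k⁻¹ ∈ E.sx → k * t * k⁻¹ = t
  · exfalso
    have hK := E.cx_eq_of_isolated ht hG hiso
    refine E.not_small ht hG (by rw [hK, E.card_sx]; norm_num) ?_
    have hsub : ∀ v : {v : G // v ∈ E.cx ∧ IsConj t v}, v.1 ∈ ({t, E.hom M.a₀, E.hom M.a₁} : Set G) := by
      rintro ⟨v, hv, hc⟩
      rw [hK] at hv
      simpa using E.isConj_sx ht hG hv hc
    calc _ ≤ Nat.card ({t, E.hom M.a₀, E.hom M.a₁} : Set G) :=
          Nat.card_le_card_of_injective (fun v => ⟨v.1, hsub v⟩) (fun a b h => Subtype.ext (congrArg (fun w : ({t, E.hom M.a₀, E.hom M.a₁} : Set G) => (w : G)) h))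
      _ ≤ 3 := by
          rw [Nat.card_coe_set_eq]
          exact (Set.ncard_insert_le _ _).trans (by
            have := Set.ncard_insert_le (E.hom M.a₀) {E.hom M.a₁}
            rw [Set.ncard_singleton] at this
            omega)
  obtain ⟨⟨k₀, hk₀, hk₀a⟩, k₁, hk₁, hk₁a⟩ := E.exists_fours ht hG hiso
  obtain ⟨K₀, K₁, hK₀, hxK₀, hK₁, hnorm, hF⟩ := E.exists_K₁ ht hG hiso
  have hK₁c : K₁ ≤ E.cx := hK₁.le.trans hK₀.le
  have hcx : Nat.card E.cx = 4 * Nat.card K₁ := by have := hK₀.card; have := hK₁.card; omega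
  have hFK : M.FM.map E.hom ≤ K₁ := hF ▸ inf_le_right
  have hF4 : Nat.card (M.FM.map E.hom) = 4 := by rw [card_map_of_injective E.inj, M.card_FM]
  have htF : t ∈ M.FM.map E.hom :=
    ⟨M.z, by rw [SetLike.mem_coe, M.FM, M.mem_maskSub, M.z_val]; decide, E.hom_z ht⟩
  -- conjugates of the centre in the centraliser of `c₀`
  have hD : ∀ v ∈ E.cx, IsConj t v → ∃ k ∈ E.cx, k * t * k⁻¹ = v := by
    intro v hv hc
    obtain ⟨k, hk, h | h | h⟩ := E.conj_cases ht hG hv hc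
    · exact ⟨k⁻¹, inv_mem hk, by rw [← h]; group⟩
    · exact ⟨k⁻¹ * k₀, mul_mem (inv_mem hk) hk₀, by
        calc k⁻¹ * k₀ * t * (k⁻¹ * k₀)⁻¹ = k⁻¹ * (k₀ * t * k₀⁻¹) * k := by group
          _ = v := by rw [hk₀a, ← h]; group⟩
    · exact ⟨k⁻¹ * k₁, mul_mem (inv_mem hk) hk₁, by
        calc k⁻¹ * k₁ * t * (k⁻¹ * k₁)⁻¹ = k⁻¹ * (k₁ * t * k₁⁻¹) * k := by group
          _ = v := by rw [hk₁a, ← h]; group⟩
  have hn : Nat.card {v : G // v ∈ E.cx ∧ IsConj t v} * 16 = Nat.card E.cx := by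
    let t' : E.cx := ⟨t, E.t_mem_cx ht⟩
    let e : {v : E.cx // IsConj t' v} → {v : G // v ∈ E.cx ∧ IsConj t v} := fun v =>
      ⟨v.1.1, v.1.2, E.cx.subtype.map_isConj v.2⟩
    have he : Function.Bijective e := ⟨fun a b h =>
        Subtype.ext (Subtype.ext (congrArg (fun z : {v : G // v ∈ E.cx ∧ IsConj t v} => (z : G)) h)),
      fun ⟨v, hv, hc⟩ => by
        obtain ⟨k, hk, hkv⟩ := hD v hv hc
        exact ⟨⟨⟨v, hv⟩, isConj_iff.2 ⟨⟨k, hk⟩, Subtype.ext hkv⟩⟩, rfl⟩⟩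
    have hc : Nat.card ↥(centralizer ({t'} : Set E.cx)) = 16 := by
      have he2 : centralizer ({t'} : Set E.cx) = E.sx.subgroupOf E.cx := by
        ext g
        rw [mem_centralizer_singleton_iff, mem_subgroupOf, sx, ← E.inf_cent, mem_inf,
          mem_centralizer_singleton_iff, mem_centralizer_singleton_iff]
        exact ⟨fun h => ⟨congrArg Subtype.val h, mem_centralizer_singleton_iff.1 g.2⟩, fun h => Subtype.ext h.1⟩
      rw [he2, Nat.card_congr (subgroupOfEquivOfLe E.sx_le).toEquiv, E.card_sx]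
    rw [← Nat.card_congr (Equiv.ofBijective e he), ← card_class t', hc]
  have small : Nat.card K₁ ≤ 12 → False := fun h => E.not_small ht hG (by omega) (by omega)
  -- the centraliser of the centre in `K₁`
  let t₁ : K₁ := ⟨t, hFK htF⟩
  have ht₁ : orderOf t₁ = 2 := by rw [orderOf_mk]; exact ht
  have hC : ∀ c : K₁, c ∈ centralizer ({t₁} : Set K₁) ↔ (c : G) ∈ M.FM.map E.hom := by
    intro c
    rw [mem_centralizer_singleton_iff, hF, mem_inf, sx, ← E.inf_cent, mem_inf,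
      mem_centralizer_singleton_iff, mem_centralizer_singleton_iff]
    exact ⟨fun h => ⟨⟨congrArg Subtype.val h, mem_centralizer_singleton_iff.1 (hK₁c c.2)⟩, c.2⟩,
      fun h => Subtype.ext h.1.1⟩
  have hC4 : Nat.card ↥(centralizer ({t₁} : Set K₁)) = 4 := by
    have he : centralizer ({t₁} : Set K₁) = (M.FM.map E.hom).subgroupOf K₁ := Subgroup.ext hC
    rw [he, Nat.card_congr (subgroupOfEquivOfLe hFK).toEquiv, hF4]
  have hFsq : ∀ f ∈ M.FM.map E.hom, f * f = 1 := by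
    rintro _ ⟨m, hm, rfl⟩
    rw [← map_mul]
    rcases M.mem_FM hm with rfl | rfl | rfl | rfl
    · simp
    · rw [M.z_invol.1, map_one]
    · rw [((M.invol_iff M.a₀).2 (by simp [M.isA_a₀])).1, map_one]
    · rw [((M.invol_iff M.a₁).2 (by simp [M.isA_a₁])).1, map_one]
  have hF3 : ∀ f ∈ M.FM.map E.hom, f ≠ 1 → f = t ∨ f = E.hom M.a₀ ∨ f = E.hom M.a₁ := by
    rintro _ ⟨m, hm, rfl⟩ hne
    rcases M.mem_FM hm with rfl | rfl | rfl | rfl
    · exact absurd (map_one _) hne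
    · exact Or.inl (E.hom_z ht)
    · exact Or.inr (Or.inl rfl)
    · exact Or.inr (Or.inr rfl)
  have hodd₁ : ¬ 2 ∣ (Nat.card K₁) / 4 ∧ 4 ∣ Nat.card K₁ := by
    obtain ⟨P, hP⟩ := E.exists_sylow_cx ht
    have hP' : (P : Subgroup E.cx) = E.sx.subgroupOf E.cx := Subgroup.ext fun g => hP g
    have h1 := card_mul_index (P : Subgroup E.cx)
    have h2 := P.not_dvd_index
    rw [hP'] at h1 h2
    rw [Nat.card_congr (subgroupOfEquivOfLe E.sx_le).toEquiv, E.card_sx, hcx] at h1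
    constructor
    · rw [show Nat.card K₁ / 4 = (E.sx.subgroupOf E.cx).index by omega]; exact h2
    · exact ⟨(E.sx.subgroupOf E.cx).index, by omega⟩
  by_cases hnc : Cfsg.HasNormalPComplement 2 K₁
  · exfalso
    obtain ⟨P, N, hN, hcomp⟩ := hnc
    haveI : Fact (Nat.Prime 2) := ⟨Nat.prime_two⟩
    have hidx : N.index = Nat.card (P : Subgroup K₁) := hcomp.symm.index_eq_card
    have hmul := hcomp.card_mul_card
    obtain ⟨j, hj⟩ := P.isPGroup'.exists_card_eq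
    have hNodd : Odd (Nat.card N) := by
      rw [Nat.odd_iff]
      have h2 := P.not_dvd_index
      have h3 : (P : Subgroup K₁).index = Nat.card N := hcomp.index_eq_card
      rw [h3] at h2
      omega
    have hbot : N.map K₁.subtype = ⊥ := by
      refine E.odd_trivial ht hG ((map_subtype_le N).trans hK₁c) ?_ ?_ ?_
      · rwa [card_map_of_injective (subtype_injective _)]
      · rintro _ ⟨k, hk, rfl⟩
        refine ⟨t₁ * k * t₁⁻¹, hN.conj_mem k hk t₁, ?_⟩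
        simp [t₁, inv_eq_of_mul_eq_one_right (two_iff.1 ht).1]
      · rintro _ ⟨k, hk, rfl⟩
        have ha : E.hom M.a₀ ∈ K₁ := hk₀a ▸ hnorm k₀ hk₀ t (hFK htF)
        refine ⟨⟨_, ha⟩ * k * ⟨_, ha⟩⁻¹, hN.conj_mem k hk _, ?_⟩
        simp [inv_eq_of_mul_eq_one_right (two_iff.1 (E.two_a₀ ht)).1]
    rw [map_eq_bot_iff_of_injective _ (subtype_injective _)] at hbot
    rw [hbot, card_bot, one_mul] at hmul
    have : Nat.card K₁ = 4 := by
      obtain ⟨q, hq⟩ := hodd₁.2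
      have h5 : ¬ 2 ∣ q := by have := hodd₁.1; rwa [hq, Nat.mul_div_cancel_left _ (by norm_num)] at this
      have h6 : q ∣ 2 ^ j := ⟨4, by rw [← hj, hmul, hq, mul_comm]⟩
      have h7 : q = 1 := Nat.eq_one_of_dvd_coprimes
        (Nat.Coprime.pow_right j (Nat.coprime_two_right.2 (Nat.odd_iff.2 (by omega)))) dvd_rfl h6
      omega
    exact small (by omega)
  by_cases hne : ∀ V : Subgroup K₁, V.Normal → Cfsg.IsElementaryAbelian 2 V → Nat.card V ≠ 2 ∧ Nat.card V ≠ 4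
  swap
  · exfalso
    push Not at hne
    obtain ⟨V, hV, -, hV24⟩ := hne
    haveI : Fact (Nat.Prime 2) := ⟨Nat.prime_two⟩
    by_cases hV2 : Nat.card V = 2
    · obtain ⟨e, heV, he1⟩ : ∃ e ∈ V, e ≠ 1 := V.bot_or_exists_ne_one.resolve_left (by
        rintro rfl; simp at hV2)
      have hcent : ∀ g : K₁, g * e = e * g := by
        intro g
        have h := hV.conj_mem e heV g
        have h' : g * e * g⁻¹ = e := by
          have hall : ∀ x : V, x = 1 ∨ x = ⟨e, heV⟩ := fun x => by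
            obtain ⟨y, -, hy⟩ := (Nat.card_eq_two_iff' (1 : V)).1 hV2
            by_cases hx : x = 1
            · exact Or.inl hx
            · exact Or.inr ((hy x hx).trans (hy ⟨e, heV⟩ fun hh => he1 (congrArg Subtype.val hh)).symm)
          rcases hall ⟨_, h⟩ with h1 | h1
          · exact absurd (conj_eq_one_iff.1 (congrArg Subtype.val h1)) he1
          · exact congrArg Subtype.val h1
        rwa [mul_inv_eq_iff_eq_mul] at h'
      have heF : (e : G) ∈ M.FM.map E.hom :=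
        (hC e).1 (mem_centralizer_singleton_iff.2 (hcent t₁).symm)
      have het : ∃ k ∈ E.cx, k * t * k⁻¹ = (e : G) := by
        rcases hF3 _ heF (fun h => he1 (Subtype.ext h)) with h | h | h
        · exact ⟨1, one_mem _, by rw [h]; group⟩
        · exact ⟨k₀, hk₀, h ▸ hk₀a⟩
        · exact ⟨k₁, hk₁, h ▸ hk₁a⟩
      obtain ⟨k, hk, hke⟩ := het
      refine small ?_
      have hinj := Nat.card_le_card_of_injective (fun w : K₁ => (⟨k⁻¹ * w * k⁻¹⁻¹, by
          have h1' : k⁻¹ * (w : G) * k⁻¹⁻¹ ∈ K₁ := hnorm _ (inv_mem hk) w w.2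
          refine (hC ⟨_, h1'⟩).1 (mem_centralizer_singleton_iff.2 (Subtype.ext ?_))
          have h3' : (w : G) * (k * t * k⁻¹) = k * t * k⁻¹ * w := by
            rw [hke]; exact congrArg Subtype.val (hcent w)
          calc k⁻¹ * (w : G) * k⁻¹⁻¹ * t = k⁻¹ * ((w : G) * (k * t * k⁻¹)) * k := by group
            _ = t * (k⁻¹ * w * k⁻¹⁻¹) := by rw [h3']; group⟩ : M.FM.map E.hom))
        (fun a b hab => Subtype.ext (mul_left_cancel (mul_right_cancel (congrArg Subtype.val hab))))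
      omega
    · have hV4 : Nat.card V = 4 := by tauto
      have hFp : IsPGroup 2 ((M.FM.map E.hom).subgroupOf K₁) := IsPGroup.of_card (n := 2) (by
        rw [Nat.card_congr (subgroupOfEquivOfLe hFK).toEquiv, hF4]; norm_num)
      have hVp : IsPGroup 2 V := IsPGroup.of_card (n := 2) (by rw [hV4]; norm_num)
      haveI := hV
      have hsup := IsPGroup.to_sup_of_normal_left hVp hFp
      obtain ⟨j, hj⟩ := hsup.exists_card_eq
      have hVF : V = (M.FM.map E.hom).subgroupOf K₁ := by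
        have hd : 2 ^ j ∣ Nat.card K₁ := hj ▸ card_subgroup_dvd_card _
        obtain ⟨q, hq⟩ := hodd₁.2
        have h5 : ¬ 2 ∣ q := by have := hodd₁.1; rwa [hq, Nat.mul_div_cancel_left _ (by norm_num)] at this
        rw [hq] at hd
        have h7 : 2 ^ j ∣ 4 := (Nat.Coprime.dvd_of_dvd_mul_right
          (Nat.Coprime.pow_left j (Nat.coprime_two_left.2 (Nat.odd_iff.2 (by omega)))) hd)
        have h8 : Nat.card ↥(V ⊔ (M.FM.map E.hom).subgroupOf K₁) ≤ 4 := hj ▸ Nat.le_of_dvd (by norm_num) h7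
        have h9 := eq_of_le_of_card_ge (le_sup_left : V ≤ V ⊔ (M.FM.map E.hom).subgroupOf K₁) (by omega)
        have h10 := eq_of_le_of_card_ge (le_sup_right : (M.FM.map E.hom).subgroupOf K₁ ≤ V ⊔ (M.FM.map E.hom).subgroupOf K₁)
          (by rw [Nat.card_congr (subgroupOfEquivOfLe hFK).toEquiv, hF4]; omega)
        rw [h9]; exact h10.symm
      have hcl : Nat.card {v : K₁ // IsConj t₁ v} ≤ 3 := by
        have hsub : ∀ v : {v : K₁ // IsConj t₁ v}, (v.1 : G) ∈ ({t, E.hom M.a₀, E.hom M.a₁} : Set G) := by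
          rintro ⟨v, hv⟩
          obtain ⟨g, hg⟩ := isConj_iff.1 hv
          have hvV : v ∈ V := hg ▸ hV.conj_mem t₁ (by rw [hVF]; exact htF) g
          rw [hVF, mem_subgroupOf] at hvV
          have hv2 : orderOf v = 2 := two_of_isConj hv ht₁
          simpa using hF3 _ hvV (fun h => (two_iff.1 hv2).2 (Subtype.ext h))
        calc _ ≤ Nat.card ({t, E.hom M.a₀, E.hom M.a₁} : Set G) :=
              Nat.card_le_card_of_injective (fun v => ⟨v.1.1, hsub v⟩) (fun a b h => Subtype.ext (Subtype.ext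
                (congrArg (fun w : ({t, E.hom M.a₀, E.hom M.a₁} : Set G) => (w : G)) h)))
          _ ≤ 3 := by
              rw [Nat.card_coe_set_eq]
              exact (Set.ncard_insert_le _ _).trans (by
                have := Set.ncard_insert_le (E.hom M.a₀) {E.hom M.a₁}
                rw [Set.ncard_singleton] at this
                omega)
      have := card_class t₁
      rw [hC4] at this
      exact small (by omega)
  obtain ⟨iso⟩ := Cfsg.Agent.S3277.result t₁ ht₁ hC4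
    (fun c hc => Subtype.ext (by simpa [sq] using hFsq _ ((hC c).1 hc))) hnc hne
  have h60 : Nat.card K₁ = 60 := by
    rw [Nat.card_congr iso.toEquiv, nat_card_alternatingGroup, Nat.card_fin]; rfl
  have hD₁ : ∀ v : G, v ∈ E.cx → IsConj t v → v ∈ K₁ := fun v hv hc => by
    obtain ⟨k, hk, rfl⟩ := hD v hv hc
    exact hnorm k hk t (hFK htF)
  have hinv₁ : ∀ v ∈ K₁, orderOf v = 2 → IsConj t v := by
    intro v hv hv2
    haveI : Fact (Nat.Prime 2) := ⟨Nat.prime_two⟩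
    obtain ⟨P, hP⟩ := E.exists_sylow_cx ht
    have hp : IsPGroup 2 (zpowers (⟨v, hK₁c hv⟩ : E.cx)) :=
      IsPGroup.of_card (n := 1) (by rw [Nat.card_zpowers, orderOf_mk, hv2]; rfl)
    obtain ⟨P', hP'⟩ := hp.exists_le_sylow
    obtain ⟨g, hg⟩ := MulAction.exists_smul_eq E.cx P' P
    have hgv : g * ⟨v, hK₁c hv⟩ * g⁻¹ ∈ P := by
      rw [← hg]
      exact smul_mem_pointwise_smul _ (MulAut.conj g) _ (hP' (mem_zpowers _))
    have hmem : (g : G) * v * (g : G)⁻¹ ∈ M.FM.map E.hom := hF ▸ ⟨(hP _).1 hgv, hnorm g g.2 v hv⟩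
    have hc : IsConj v ((g : G) * v * (g : G)⁻¹) := isConj_iff.2 ⟨g, rfl⟩
    refine IsConj.trans ?_ hc.symm
    rcases hF3 _ hmem (two_iff.1 (two_of_isConj hc hv2)).2 with h | h | h <;> rw [h]
    · exact E.isConj_a₀ ht hG
    · exact (E.isConj_a₀ ht hG).trans (E.isConj_of (M.conj_a M.isA_a₁))
  have hxc : ∀ k ∈ E.cx, k * E.hom M.c₀ = E.hom M.c₀ * k := fun k hk => mem_centralizer_singleton_iff.1 hk
  have hxcx : E.hom M.c₀ ∈ E.cx := mem_centralizer_singleton_iff.2 rfl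
  have hxt : ∀ {v : G}, orderOf v = 2 → v ∈ E.cx → v ∉ K₁ → IsConj (E.hom M.c₀) v := fun h2 hc hn' =>
    (E.class_cases ht hG h2).resolve_left fun h => hn' (hD₁ _ hc h)
  -- the pairs around `c₀`
  have hpairs : Nat.card {p : G × G // IsConj t p.1 ∧ IsConj (E.hom M.c₀) p.2 ∧
      E.hom M.c₀ ∈ zpowers (p.1 * p.2)} = 195 := by
    rw [← H73.Janko.a5_count, ← Nat.card_eq_fintype_card,
      ← Nat.card_congr (Equiv.subtypeEquiv (p := fun q : K₁ × K₁ =>
        (q.1 * q.1 = 1 ∧ q.1 ≠ 1) ∧ q.2 * q.2 = 1 ∧ (q.1 * q.2) ^ 15 = 1)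
        (Equiv.prodCongr iso.toEquiv iso.toEquiv) (fun q => by
          show _ ↔ (iso q.1 * iso q.1 = 1 ∧ iso q.1 ≠ 1) ∧ iso q.2 * iso q.2 = 1 ∧ (iso q.1 * iso q.2) ^ 15 = 1
          rw [← map_mul, ← map_mul, ← map_mul, ← map_pow, ← map_one iso, iso.injective.eq_iff,
            iso.injective.ne_iff, iso.injective.eq_iff, iso.injective.eq_iff]))]
    symm
    have hwit : ∀ q : {q : K₁ × K₁ // (q.1 * q.1 = 1 ∧ q.1 ≠ 1) ∧ q.2 * q.2 = 1 ∧ (q.1 * q.2) ^ 15 = 1},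
        IsConj t (q.1.1 : G) ∧ IsConj (E.hom M.c₀) (E.hom M.c₀ * q.1.2) ∧
          E.hom M.c₀ ∈ zpowers ((q.1.1 : G) * (E.hom M.c₀ * q.1.2)) := by
      rintro ⟨⟨u, w⟩, ⟨hu, hu1⟩, hw, huw⟩
      have hw1 : w ≠ 1 := by
        rintro rfl
        rw [mul_one] at huw
        refine hu1 ?_
        have h2 : u ^ 15 = (u * u) ^ 7 * u := by rw [← sq, ← pow_mul, ← pow_succ]
        rwa [huw, hu, one_pow, one_mul, eq_comm] at h2
      have hwG : (w : G) * w = 1 := congrArg Subtype.val hw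
      have hxw : E.hom M.c₀ * (w : G) * (E.hom M.c₀ * w) = 1 := by
        calc _ = E.hom M.c₀ * ((w : G) * E.hom M.c₀) * w := by group
          _ = (E.hom M.c₀ * E.hom M.c₀) * ((w : G) * w) := by rw [hxc _ (hK₁c w.2)]; group
          _ = 1 := by rw [hx2.1, hwG, one_mul]
      have hxw1 : E.hom M.c₀ * (w : G) ∉ K₁ := fun h => hxK₀ (by
        have h' := K₀.mul_mem (hK₁.le h) (K₀.inv_mem (hK₁.le w.2))
        simpa using h')
      refine ⟨hinv₁ _ u.2 (two_iff.2 ⟨congrArg Subtype.val hu, fun h => hu1 (Subtype.ext h)⟩),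
        hxt (two_iff.2 ⟨hxw, fun h => hxw1 (h ▸ one_mem _)⟩) (mul_mem hxcx (hK₁c w.2)) hxw1, ?_⟩
      have hcomm : Commute (E.hom M.c₀) ((u : G) * w) := (hxc _ (hK₁c (mul_mem u.2 w.2))).symm
      have he : (u : G) * (E.hom M.c₀ * w) = E.hom M.c₀ * ((u : G) * w) := by
        rw [← mul_assoc, hxc _ (hK₁c u.2), mul_assoc]
      refine ⟨15, ?_⟩
      show ((u : G) * (E.hom M.c₀ * w)) ^ (15 : ℤ) = _
      rw [he, show (15 : ℤ) = ((15 : ℕ) : ℤ) from rfl, zpow_natCast, hcomm.mul_pow]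
      have h1 : E.hom M.c₀ ^ 15 = E.hom M.c₀ := by
        rw [show (15 : ℕ) = 2 * 7 + 1 from rfl, pow_succ, pow_mul, sq, hx2.1, one_pow, one_mul]
      have h2 : ((u : G) * w) ^ 15 = 1 := congrArg Subtype.val huw
      rw [h1, h2, mul_one]
    refine Nat.card_congr (Equiv.ofBijective (fun q => ⟨((q.1.1 : G), E.hom M.c₀ * q.1.2), hwit q⟩) ⟨?_, ?_⟩)
    · intro a b h
      have h' := congrArg Subtype.val h
      exact Subtype.ext (Prod.ext (Subtype.ext (congrArg Prod.fst h'))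
        (Subtype.ext (mul_left_cancel (congrArg Prod.snd h'))))
    rintro ⟨⟨u, v⟩, hu, hv, hz⟩
    have hu2 : u * u = 1 ∧ u ≠ 1 := two_iff.1 (two_of_isConj hu ht)
    have hv2 : v * v = 1 ∧ v ≠ 1 := two_iff.1 (two_of_isConj hv (E.two_c₀ ht))
    obtain ⟨hu', hv'⟩ := H73.Janko.mem_centralizer_of_mem_zpowers hu2.1 hv2.1 hx2.1 hz
    change u ∈ E.cx at hu'
    change v ∈ E.cx at hv'
    have huK := hD₁ u hu' hu
    obtain ⟨k, hk⟩ := hz
    change (u * v) ^ k = E.hom M.c₀ at hk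
    set w := E.hom M.c₀ * v with hw
    have hwc : w ∈ E.cx := mul_mem hxcx hv'
    have hwK₀ : w ∈ K₀ := by
      rw [hw, hK₀.mul_iff _ hxcx _ hv']
      have hvK : v ∉ K₀ := fun h => hxK₀ (hk ▸ K₀.zpow_mem (mul_mem (hK₁.le huK) h) k)
      tauto
    have hww : w * w = 1 := by
      calc w * w = E.hom M.c₀ * (v * E.hom M.c₀) * v := by rw [hw]; group
        _ = (E.hom M.c₀ * E.hom M.c₀) * (v * v) := by rw [hxc _ hv']; group
        _ = 1 := by rw [hx2.1, hv2.1, one_mul]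
    have huv : u * v = E.hom M.c₀ * (u * w) := by
      calc u * v = u * (E.hom M.c₀ * E.hom M.c₀) * v := by rw [hx2.1, mul_one]
        _ = E.hom M.c₀ * (u * w) := by rw [← mul_assoc u, hxc _ hu', hw]; group
    have huwc : Commute (E.hom M.c₀) (u * w) := (hxc _ (mul_mem hu' hwc)).symm
    rw [huv, huwc.mul_zpow] at hk
    rcases Int.even_or_odd k with ⟨j, rfl⟩ | ⟨j, rfl⟩
    · exfalso
      rw [zpow_add, ← (Commute.refl (E.hom M.c₀)).mul_zpow, hx2.1, one_zpow, one_mul] at hk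
      exact hxK₀ (hk ▸ K₀.zpow_mem (mul_mem (hK₁.le huK) hwK₀) _)
    rw [zpow_add, two_mul, zpow_add, ← (Commute.refl (E.hom M.c₀)).mul_zpow, hx2.1, one_zpow, one_mul,
      zpow_one, mul_eq_left] at hk
    have hodd : Odd (orderOf (u * w)) := by
      have h := orderOf_dvd_iff_zpow_eq_one.2 hk
      refine Nat.odd_iff.2 (Nat.two_dvd_ne_zero.1 fun h2 => ?_)
      obtain ⟨a, ha⟩ := (Int.natCast_dvd_natCast.2 h2).trans h
      push_cast at ha
      omega
    -- two involutions with product of odd order are conjugate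
    obtain ⟨i, hi⟩ := hodd
    have hd : ((u * w) ^ i) * u * ((u * w) ^ i)⁻¹ = w := by
      have h1 : u * (u * w) ^ (i : ℕ) * u = ((u * w) ^ i)⁻¹ := by
        have hinv : u⁻¹ = u := inv_eq_of_mul_eq_one_right hu2.1
        have hwinv : w⁻¹ = w := inv_eq_of_mul_eq_one_right hww
        calc u * (u * w) ^ i * u = u * (u * w) ^ i * u⁻¹ := by rw [hinv]
          _ = (u * (u * w) * u⁻¹) ^ i := (conj_pow).symm
          _ = _ := by
            rw [← inv_pow, mul_inv_rev, hwinv, hinv]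
            congr 1
            rw [← mul_assoc u u w, hu2.1, one_mul]
      have h2 : (u * w) ^ i * u = u * ((u * w) ^ i)⁻¹ := by
        rw [← h1]
        calc (u * w) ^ i * u = (u * u) * (u * w) ^ i * u := by rw [hu2.1, one_mul]
          _ = u * (u * (u * w) ^ i * u) := by simp only [mul_assoc]
      have h3 : (u * w) ^ (i + i) * (u * w) = 1 := by
        rw [← pow_succ, ← two_mul, ← hi]; exact pow_orderOf_eq_one _
      rw [h2, mul_assoc, ← mul_inv_rev, ← pow_add, inv_eq_of_mul_eq_one_right h3, ← mul_assoc, hu2.1, one_mul]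
    have hwK : w ∈ K₁ := hD₁ w hwc (hu.trans (isConj_iff.2 ⟨(u * w) ^ i, hd⟩))
    refine ⟨⟨(⟨u, huK⟩, ⟨w, hwK⟩), ⟨Subtype.ext hu2.1, fun h => hu2.2 (congrArg Subtype.val h)⟩,
      Subtype.ext hww, ?_⟩, ?_⟩
    · by_contra hne'
      have h := H73.Janko.a5_even_or (iso (⟨u, huK⟩ * ⟨w, hwK⟩)) (fun h => hne' (by
        apply iso.injective; rw [map_pow, h, map_one]))
      rw [← map_mul, ← map_one iso, iso.injective.eq_iff, ← sq] at h
      have h' : (u * w) ^ 2 = 1 := congrArg Subtype.val h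
      have h1 : orderOf (u * w) = 1 := Nat.eq_one_of_dvd_coprimes
        (Nat.coprime_two_left.2 ⟨i, hi⟩) (orderOf_dvd_of_pow_eq_one h') dvd_rfl
      refine hne' (Subtype.ext ?_)
      show (u * w) ^ 15 = 1
      rw [orderOf_eq_one_iff.1 h1, one_pow]
    · refine Subtype.ext (Prod.ext rfl ?_)
      show E.hom M.c₀ * w = v
      rw [hw, ← mul_assoc, hx2.1, one_mul]
  rw [E.order_formula ht hG, hpairs, hcx, h60]

end Emb

end Cfsg.Agent.H86.MTwelve
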