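import Cfsg.Agent.H86.MTwelve.Data
import Cfsg.Agent.Golay.Mathieu

/-!
The centraliser of a 2-central involution of the Mathieu group of degree 12 as a group on 192 labels.
-/

set_option autoImplicit false

namespace Cfsg.Agent.H86.MTwelve

open Cfsg Cfsg.Agent.Golay

/-- Product of labels. -/
def nmul (a b : ℕ) : ℕ :=
  (((Data.mulRows.getD (a / 16) []).getD (a % 16) 0) >>> (8 * b)) &&& 255

/-- Byte of a packed table. -/
def byteAt (T a : ℕ) : ℕ := (T >>> (8 * a)) &&& 255

/-- Table of a label. -/
def tbl (a : ℕ) : ℕ := (Data.tblRows.getD (a / 16) []).getD (a % 16) 0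

/-- Generator with a given tag. -/
def genN (k : ℕ) : ℕ := if k == 0 then Data.genA else Data.genB

lemma rows_check :
    ((List.range 192).all fun a =>
      inM24 (tbl a) && Nat.ble (byteAt Data.invPack a) 191 &&
      (List.range 192).all fun b => Nat.ble (nmul a b) 191) = true := by
  decide +kernel

lemma unit_check :
    ((List.range 192).all fun a =>
      nmul a 0 == a && nmul 0 a == a && nmul (byteAt Data.invPack a) a == 0 &&
        nmul a (byteAt Data.invPack a) == 0 &&
        (a == 0 || (!tblEq (tbl a) idTbl))) = true ∧ tblEq (tbl 0) idTbl = true := by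
  decide +kernel

lemma cancel_check :
    ((List.range 192).all fun a => (List.range 192).all fun b =>
      nmul (nmul a (byteAt Data.invPack b)) b == a) = true := by
  decide +kernel

lemma gen_check :
    ((List.range 192).all fun a => [Data.genA, Data.genB].all fun g =>
      tblEq (tbl (nmul a g)) (tblMul (tbl a) (tbl g))) = true := by
  decide +kernel

lemma assoc_check :
    ((List.range 192).all fun a => (List.range 192).all fun b => [Data.genA, Data.genB].all fun g =>
      nmul a (nmul b g) == nmul (nmul a b) g) = true := by
  decide +kernel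

lemma tree_check :
    ((List.range 192).all fun a => a == 0 ||
      (Nat.blt (byteAt Data.parPack a) a &&
        nmul (byteAt Data.parPack a) (genN (byteAt Data.genPack a)) == a)) = true := by
  decide +kernel

/-- The 192 labels. -/
def M : Type := Fin 192

namespace M

instance : DecidableEq M := inferInstanceAs (DecidableEq (Fin 192))
instance : Fintype M := inferInstanceAs (Fintype (Fin 192))

/-- The label as a number. -/
def val (a : M) : ℕ := Fin.val (show Fin 192 from a)

/-- A number as a label. -/
def mk (n : ℕ) : M := (⟨n % 192, Nat.mod_lt _ (by decide)⟩ : Fin 192)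

lemma val_lt (a : M) : a.val < 192 := Fin.isLt (show Fin 192 from a)

lemma val_inj {a b : M} : a.val = b.val ↔ a = b := Fin.val_inj

lemma val_mk {n : ℕ} (h : n < 192) : (mk n).val = n := Nat.mod_eq_of_lt h

lemma mk_val (a : M) : mk a.val = a := val_inj.1 (val_mk a.val_lt)

lemma all_range {p : ℕ → Bool} (h : (List.range 192).all p = true) (a : M) : p a.val = true :=
  List.all_eq_true.1 h _ (List.mem_range.2 a.val_lt)

instance : One M := ⟨mk 0⟩
instance : Mul M := ⟨fun a b => mk (nmul a.val b.val)⟩
instance : Inv M := ⟨fun a => mk (byteAt Data.invPack a.val)⟩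

lemma one_val : (1 : M).val = 0 := val_mk (by decide)

lemma row_facts (a : M) : inM24 (tbl a.val) = true ∧ byteAt Data.invPack a.val < 192 ∧
    ∀ b : M, nmul a.val b.val < 192 := by
  have h := all_range rows_check a
  rw [Bool.and_eq_true, Bool.and_eq_true, Nat.ble_eq] at h
  refine ⟨h.1.1, by omega, fun b => ?_⟩
  have := all_range h.2 b
  rw [Nat.ble_eq] at this
  omega

lemma mul_val (a b : M) : (a * b).val = nmul a.val b.val := val_mk ((row_facts a).2.2 b)

lemma inv_val (a : M) : (a⁻¹).val = byteAt Data.invPack a.val := val_mk (row_facts a).2.1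

/-- The permutation of a label. -/
noncomputable def perm (a : M) : Equiv.Perm GolayPt := mkPerm (tbl a.val)

lemma tbl_valid (a : M) : validT (tbl a.val) = true := validT_of_inM24 (row_facts a).1

lemma perm_one : perm 1 = 1 := by
  rw [← idTbl_spec.2, perm]
  refine mkPerm_eq_of_tblEq (tbl_valid _) idTbl_spec.1 ?_
  rw [one_val]; exact unit_check.2

lemma mul_one' (a : M) : a * 1 = a := by
  rw [← val_inj, mul_val, one_val]
  have h := all_range unit_check.1 a
  simp only [Bool.and_eq_true, beq_iff_eq] at h
  exact h.1.1.1.1

lemma one_mul' (a : M) : 1 * a = a := by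
  rw [← val_inj, mul_val, one_val]
  have h := all_range unit_check.1 a
  simp only [Bool.and_eq_true, beq_iff_eq] at h
  exact h.1.1.1.2

lemma inv_mul' (a : M) : a⁻¹ * a = 1 := by
  rw [← val_inj, mul_val, inv_val, one_val]
  have h := all_range unit_check.1 a
  simp only [Bool.and_eq_true, beq_iff_eq] at h
  exact h.1.1.2

lemma mul_inv' (a : M) : a * a⁻¹ = 1 := by
  rw [← val_inj, mul_val, inv_val, one_val]
  have h := all_range unit_check.1 a
  simp only [Bool.and_eq_true, beq_iff_eq] at h
  exact h.1.2

lemma cancel' (a b : M) : a * b⁻¹ * b = a := by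
  rw [← val_inj, mul_val, mul_val, inv_val]
  exact beq_iff_eq.1 (all_range (all_range cancel_check a) b)

/-- The generator with a given tag. -/
def gen (k : ℕ) : M := mk (genN k)

lemma gen_val (k : ℕ) : (gen k).val = genN k ∧ genN k ∈ [Data.genA, Data.genB] := by
  unfold gen genN
  split_ifs
  · exact ⟨val_mk (by decide), by simp⟩
  · exact ⟨val_mk (by decide), by simp⟩

lemma perm_mul_gen (a : M) (k : ℕ) : perm (a * gen k) = perm a * perm (gen k) := by
  have h := List.all_eq_true.1 (all_range gen_check a) _ (gen_val k).2
  rw [← (gen_val k).1, ← mul_val] at h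
  unfold perm
  rw [← (tblMul_spec (tbl_valid a) (tbl_valid (gen k))).2]
  exact mkPerm_eq_of_tblEq (tbl_valid _) (tblMul_spec (tbl_valid a) (tbl_valid _)).1 h

lemma assoc_gen (a b : M) (k : ℕ) : a * (b * gen k) = a * b * gen k := by
  have h := List.all_eq_true.1 (all_range (all_range assoc_check a) b) _ (gen_val k).2
  rw [← (gen_val k).1] at h
  rw [← val_inj, mul_val, mul_val, mul_val, mul_val]
  exact beq_iff_eq.1 h

lemma perm_mul (a b : M) : perm (a * b) = perm a * perm b := by
  induction hn : b.val using Nat.strong_induction_on generalizing b with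
  | _ n ih =>
    subst hn
    by_cases hb : b = 1
    · rw [hb, mul_one', perm_one, mul_one]
    · have h := all_range tree_check b
      have h0 : (b.val == 0) = false := beq_eq_false_iff_ne.2 fun h => hb (val_inj.1 (h.trans one_val.symm))
      rw [h0, Bool.false_or, Bool.and_eq_true, Nat.blt_eq] at h
      set p := mk (byteAt Data.parPack b.val) with hp
      have hpv : p.val = byteAt Data.parPack b.val := val_mk (lt_trans h.1 b.val_lt)
      have hbe : b = p * gen (byteAt Data.genPack b.val) := by
        rw [← val_inj, mul_val, hpv, (gen_val _).1]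
        exact (beq_iff_eq.1 h.2).symm
      rw [hbe, assoc_gen, perm_mul_gen, perm_mul_gen, ih p.val (by rw [hpv]; exact h.1) p rfl, mul_assoc]

lemma perm_eq_one {a : M} (h : perm a = 1) : a = 1 := by
  by_contra ha
  have h1 := all_range unit_check.1 a
  simp only [Bool.and_eq_true, Bool.or_eq_true, beq_iff_eq, Bool.not_eq_true'] at h1
  refine absurd (h1.2.resolve_left fun hh => ha (val_inj.1 (hh.trans one_val.symm))) ?_
  rw [Bool.not_eq_false, tblEq, List.all_eq_true]
  intro i hi
  have hi' := List.mem_range.1 hi
  rw [beq_iff_eq, idTbl, app_mkTbl hi' (fun j hj => by simp only [id]; omega), id]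
  conv_rhs => rw [← idx_pt i hi', ← show perm a (pt i) = pt i by rw [h]; rfl]
  rw [perm, idx_mkPerm (tbl_valid a), idx_pt i hi']

lemma perm_injective : Function.Injective perm := by
  intro a b h
  have h1 : perm (a * b⁻¹) = 1 := by
    rw [perm_mul, h, ← perm_mul, mul_inv', perm_one]
  rw [← cancel' a b, perm_eq_one h1, one_mul']

instance : Group M :=
  Group.ofLeftAxioms (fun a b c => perm_injective (by simp only [perm_mul, mul_assoc])) one_mul' inv_mul'

/-- The permutation representation. -/
noncomputable def rep : M →* Equiv.Perm GolayPt where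
  toFun := perm
  map_one' := perm_one
  map_mul' := perm_mul

lemma rep_injective : Function.Injective rep := perm_injective

lemma card_M : Nat.card M = 192 := by
  rw [show Nat.card M = Nat.card (Fin 192) from rfl, Nat.card_eq_fintype_card, Fintype.card_fin]

lemma card_filter (p : M → Prop) [DecidablePred p] (q : ℕ → Bool) (h : ∀ a, p a ↔ q a.val = true) :
    Nat.card {a : M // p a} = ((List.range 192).filter q).length := by
  rw [Nat.card_eq_fintype_card, Fintype.card_subtype,
    ← List.toFinset_card_of_nodup (List.nodup_range.filter q),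
    ← Finset.card_image_of_injective _ (f := val) fun a b h => val_inj.1 h]
  congr 1
  ext n
  simp only [Finset.mem_image, Finset.mem_filter, Finset.mem_univ, true_and, List.mem_toFinset,
    List.mem_filter, List.mem_range, h]
  constructor
  · rintro ⟨a, ha, rfl⟩; exact ⟨a.val_lt, ha⟩
  · rintro ⟨hn, hq⟩; exact ⟨mk n, by rw [val_mk hn]; exact hq, val_mk hn⟩

end M

end Cfsg.Agent.H86.MTwelve
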