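import Cfsg.Agent.H86.MTwelve.Fused

/-!
A simple group with the involution centraliser of the Mathieu group of degree 12 has order 95040.
-/

set_option autoImplicit false

namespace Cfsg.Agent.H86.MTwelve

/-- The order theorem. -/
theorem isM12_of_centralizer {G : Type*} [Group G] [Finite G] [IsSimpleGroup G] (hG : ¬ IsMulCommutative G)
    (u : ↥Cfsg.Spor.M12) (hu : Cfsg.IsTwoCentralInvolution u) (t : G) (ht : orderOf t = 2)
    (e : ↥(Subgroup.centralizer ({t} : Set G)) ≃* ↥(Subgroup.centralizer ({u} : Set ↥Cfsg.Spor.M12))) :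
    Cfsg.IsM12 G := by
  have hG' : ¬ ∀ a b : G, a * b = b * a := fun h => hG ⟨⟨h⟩⟩
  obtain ⟨E⟩ := exists_emb u hu t e
  exact ⟨inferInstance, E.card_eq ht hG'⟩

end Cfsg.Agent.H86.MTwelve
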