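import Cfsg.Agent.H86.MTwelve.Fusion
import Cfsg.Agent.H86.MTwelve.Counts
import Cfsg.Agent.H73.JankoOrder
import Cfsg.Agent.S0213

/-!
Centraliser of the second class, and the impossibility of the case where the class of 24 joins it.
-/

set_option autoImplicit false

namespace Cfsg.Agent.H86.MTwelve

open Subgroup

variable {G : Type*} [Group G] [Finite G]

/-- A conjugacy class times a centraliser. -/
lemma card_class (t : G) :
    Nat.card {v : G // IsConj t v} * Nat.card ↥(centralizer ({t} : Set G)) = Nat.card G := by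
  have e : {v : G // IsConj t v} ≃ ↥(ConjClasses.mk t).carrier :=
    Equiv.subtypeEquivRight fun v => by
      rw [ConjClasses.mem_carrier_iff_mk_eq, ConjClasses.mk_eq_mk_iff_isConj]; exact isConj_comm
  rw [Nat.card_congr e, ← card_mul_index (centralizer ({t} : Set G)), mul_comm]
  congr 1
  have h1 := MulAction.index_stabilizer (ConjAct G) (X := G) t
  have h2 : (MulAction.stabilizer (ConjAct G) t).index = (centralizer ({t} : Set G)).index := by
    rw [ConjAct.stabilizer_eq_centralizer]; rfl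
  rw [← h2, h1, ← Nat.card_coe_set_eq, ConjAct.orbit_eq_carrier_conjClasses]

namespace Emb

variable {t : G} (E : Emb t) (ht : orderOf t = 2)

/-- The centraliser of the representative of the second class. -/
noncomputable abbrev cx : Subgroup G := centralizer ({E.hom M.c₀} : Set G)

/-- The common centraliser. -/
noncomputable abbrev sx : Subgroup G := (centralizer ({M.c₀} : Set M)).map E.hom

omit [Finite G] in
lemma card_sx : Nat.card E.sx = 16 := by
  rw [card_map_of_injective E.inj, M.card_cent_c M.isC_c₀]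

omit [Finite G] in
lemma sx_le : E.sx ≤ E.cx := by
  rw [sx, ← E.inf_cent]; exact inf_le_right

omit [Finite G] in
lemma mem_cx {m : M} (h : m * M.c₀ = M.c₀ * m) : E.hom m ∈ E.cx :=
  mem_centralizer_singleton_iff.2 (E.comm_hom.2 h)

omit [Finite G] in
lemma hom_a₀_mem : E.hom M.a₀ ∈ E.cx := E.mem_cx M.a₀_comm_c₀

include ht

omit [Finite G] in
lemma t_mem_cx : t ∈ E.cx := by
  have h := E.mem_cx (M.comm_z M.c₀).symm
  rwa [E.hom_z ht] at h

omit [Finite G] in
lemma t_mem_sx : t ∈ E.sx :=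
  ⟨M.z, mem_centralizer_singleton_iff.2 (M.comm_z M.c₀).symm, E.hom_z ht⟩

lemma exists_sylow_cx : ∃ P : Sylow 2 ↥E.cx, ∀ g : ↥E.cx, g ∈ P ↔ (g : G) ∈ E.sx := by
  haveI : Fact (Nat.Prime 2) := ⟨Nat.prime_two⟩
  have hp : IsPGroup 2 (E.sx.subgroupOf E.cx) :=
    IsPGroup.of_card (n := 4) (by rw [Nat.card_congr (subgroupOfEquivOfLe E.sx_le).toEquiv, E.card_sx]; norm_num)
  obtain ⟨P, hP⟩ := hp.exists_le_sylow
  have hQ : (P : Subgroup ↥E.cx).map E.cx.subtype = E.sx :=
    E.cent_c_max ht (P.isPGroup'.map _) (by rintro _ ⟨q, -, rfl⟩; exact mem_centralizer_singleton_iff.1 q.2)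
      (fun y hy => ⟨⟨y, E.sx_le hy⟩, hP hy, rfl⟩)
  exact ⟨P, fun g => by rw [← hQ]; exact ⟨fun h => ⟨g, h, rfl⟩, fun ⟨k, hk, he⟩ => Subtype.ext he ▸ hk⟩⟩

variable [IsSimpleGroup G] (hG : ¬ ∀ a b : G, a * b = b * a)
include hG

lemma isConj_t_iff (m : M) : IsConj t (E.hom m) ↔
    m = M.z ∨ M.IsA m ∨ (M.IsB m ∧ IsConj t (E.hom M.b₀)) := by
  constructor
  · intro h
    rcases (M.invol_iff m).1 (E.two_hom.1 (two_of_isConj h ht)) with h' | h' | h' | h'
    · exact Or.inl h'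
    · exact Or.inr (Or.inl h')
    · exact Or.inr (Or.inr ⟨h', h.trans (E.isConj_of (M.conj_b h')).symm⟩)
    · exact absurd h (E.not_isConj_isC ht h')
  · rintro (rfl | h | ⟨h, hb⟩)
    · rw [E.hom_z ht]
    · exact (E.isConj_a₀ ht hG).trans (E.isConj_of (M.conj_a h))
    · exact hb.trans (E.isConj_of (M.conj_b h))

lemma isConj_x_iff (m : M) : IsConj (E.hom M.c₀) (E.hom m) ↔
    M.IsC m ∨ (M.IsB m ∧ ¬ IsConj t (E.hom M.b₀)) := by
  constructor
  · intro h
    rcases (M.invol_iff m).1 (E.two_hom.1 (two_of_isConj h (E.two_c₀ ht))) with h' | h' | h' | h'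
    · exact absurd (((E.isConj_t_iff ht hG m).2 (Or.inl h')).trans h.symm) (E.not_isConj_c ht)
    · exact absurd (((E.isConj_t_iff ht hG m).2 (Or.inr (Or.inl h'))).trans h.symm) (E.not_isConj_c ht)
    · exact Or.inr ⟨h', fun hb => E.not_isConj_c ht
        (((E.isConj_t_iff ht hG m).2 (Or.inr (Or.inr ⟨h', hb⟩))).trans h.symm)⟩
    · exact Or.inl h'
  · rintro (h | ⟨h, hb⟩)
    · exact E.isConj_of (M.conj_c h)
    · rcases E.class_cases ht hG (E.two_b₀ ht) with h1 | h1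
      · exact absurd h1 hb
      · exact h1.trans (E.isConj_of (M.conj_b h))

/-- Conjugates of the centre in the common centraliser. -/
lemma isConj_sx {g : G} (hg : g ∈ E.sx) (h : IsConj t g) :
    g = t ∨ g = E.hom M.a₀ ∨ g = E.hom M.a₁ := by
  obtain ⟨m, hm, rfl⟩ := hg
  have hmc := mem_centralizer_singleton_iff.1 hm
  rcases (E.isConj_t_iff ht hG m).1 h with h' | h' | ⟨h', -⟩
  · exact Or.inl (h' ▸ E.hom_z ht)
  · exact Or.inr ((M.ab_in_cent_c₀ hmc (Or.inl h')).imp (congrArg E.hom) (congrArg E.hom))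
  · exact Or.inr ((M.ab_in_cent_c₀ hmc (Or.inr h')).imp (congrArg E.hom) (congrArg E.hom))

/-- The orders of elements commuting with a conjugate of the centre and with `c₀`. -/
lemma coprime_trivial {f n : G} (hf : IsConj t f) (hfx : f ≠ E.hom M.c₀)
    (hfc : f * E.hom M.c₀ = E.hom M.c₀ * f) (hnf : n * f = f * n)
    (hnx : n * E.hom M.c₀ = E.hom M.c₀ * n) (hodd : Odd (orderOf n)) : n = 1 := by
  obtain ⟨g, rfl⟩ := isConj_iff.1 hf
  obtain ⟨m, hm⟩ := (E.conj g).mem_iff.1 hfc.symm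
  have hm2 := (E.conj g).two_hom.1 ((congrArg orderOf hm).trans (E.two_c₀ ht))
  have hdvd : ∃ k, orderOf n ∣ 2 ^ k := by
    have h1 : n ∈ centralizer ({g * t * g⁻¹} : Set G) ⊓ centralizer ({(E.conj g).hom m} : Set G) :=
      ⟨mem_centralizer_singleton_iff.2 hnf, mem_centralizer_singleton_iff.2 (by rw [hm]; exact hnx)⟩
    have h2 := orderOf_dvd_natCard (⟨n, h1⟩ : ↥(centralizer ({g * t * g⁻¹} : Set G) ⊓ centralizer ({(E.conj g).hom m} : Set G)))
    rw [Subgroup.orderOf_mk, (E.conj g).card_inf_cent] at h2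
    rcases (M.invol_iff m).1 hm2 with h | h | h | h
    · exfalso
      refine hfx ?_
      rw [← hm, h, (E.conj g).map_z]
      exact fun he => (two_iff.1 ht).2 (conj_eq_one_iff.1 he)
    · exact ⟨5, by rw [M.card_cent_a h] at h2; exact h2⟩
    · exact ⟨3, by rw [M.card_cent_b h] at h2; exact h2⟩
    · exact ⟨4, by rw [M.card_cent_c h] at h2; exact h2⟩
  obtain ⟨k, hk⟩ := hdvd
  exact orderOf_eq_one_iff.1 (Nat.eq_one_of_dvd_coprimes
    (Nat.Coprime.pow_right k (Nat.coprime_two_right.2 hodd)) dvd_rfl hk)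

/-- An odd subgroup of the centraliser of `c₀` normalised by the four-group is trivial. -/
lemma odd_trivial {N : Subgroup G} (hN : N ≤ E.cx) (hodd : Odd (Nat.card N))
    (h1 : ∀ n ∈ N, t * n * t ∈ N) (h2 : ∀ n ∈ N, E.hom M.a₀ * n * E.hom M.a₀ ∈ N) : N = ⊥ := by
  classical
  have hA := E.isConj_a₀ ht hG
  have hA1 : IsConj t (E.hom M.a₁) := hA.trans (E.isConj_of (M.conj_a M.isA_a₁))
  have hprod : E.hom M.a₀ * E.hom M.a₁ = t := by rw [← map_mul, M.a₀_mul_a₁, E.hom_z ht]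
  have hsq : ∀ {f : G}, IsConj t f → f * f = 1 := fun hf => (two_iff.1 (two_of_isConj hf ht)).1
  have h3 : ∀ n ∈ N, E.hom M.a₁ * n * E.hom M.a₁ ∈ N := by
    intro n hn
    have he : E.hom M.a₁ = E.hom M.a₀ * t := by
      have h' := congrArg (fun s => E.hom M.a₀ * s) hprod
      simp only [← mul_assoc, hsq hA, one_mul] at h'
      exact h'
    have he' : E.hom M.a₁ = t * E.hom M.a₀ := by rw [he, E.comm]
    nth_rw 1 [he]
    rw [he']
    have := h2 _ (h1 n hn)
    simpa [mul_assoc] using this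
  have key : ∀ f : G, IsConj t f → f ∈ E.cx → (∀ n ∈ N, f * n * f ∈ N) → ∀ n ∈ N, f * n * f = n⁻¹ := by
    intro f hf hfc hfN n hn
    have hff := hsq hf
    have hfx : f ≠ E.hom M.c₀ := fun h => E.not_isConj_c ht (h ▸ hf)
    let ψ : N → N := fun k => ⟨(k : G)⁻¹ * (f * k * f), N.mul_mem (N.inv_mem k.2) (hfN _ k.2)⟩
    have hinj : Function.Injective ψ := by
      intro a b hab
      have he : (a : G)⁻¹ * (f * a * f) = (b : G)⁻¹ * (f * b * f) := congrArg Subtype.val hab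
      have hw : f * ((b : G) * (a : G)⁻¹) * f = (b : G) * (a : G)⁻¹ := by
        have hfa : f * (a : G) * f = (a : G) * ((b : G)⁻¹ * (f * b * f)) := by rw [← he]; group
        have hfinv : f⁻¹ = f := inv_eq_of_mul_eq_one_right hff
        calc f * ((b : G) * (a : G)⁻¹) * f = (f * b * f) * (f * (a : G) * f)⁻¹ := by
              simp only [mul_inv_rev, hfinv]
              calc f * ((b : G) * (a : G)⁻¹) * f = f * b * ((f * f) * (a : G)⁻¹ * f) := by rw [hff]; group
                _ = _ := by simp only [mul_assoc]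
          _ = (b : G) * (a : G)⁻¹ := by rw [hfa]; group
      have hodd' : Odd (orderOf ((b : G) * (a : G)⁻¹)) := by
        have hmem : (b : G) * (a : G)⁻¹ ∈ N := N.mul_mem b.2 (N.inv_mem a.2)
        have h' := orderOf_dvd_natCard (⟨_, hmem⟩ : N)
        rw [Subgroup.orderOf_mk] at h'
        exact hodd.of_dvd_nat h'
      have hcomm : (b : G) * (a : G)⁻¹ * f = f * ((b : G) * (a : G)⁻¹) := by
        have h' := congrArg (fun s => s * f) hw
        simp only [mul_assoc, hff, mul_one] at h'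
        simpa [mul_assoc] using h'.symm
      have h1' := E.coprime_trivial ht hG hf hfx (mem_centralizer_singleton_iff.1 hfc) hcomm
        (mem_centralizer_singleton_iff.1 (E.cx.mul_mem (hN b.2) (E.cx.inv_mem (hN a.2)))) hodd'
      exact Subtype.ext (mul_inv_eq_one.1 h1').symm
    obtain ⟨k, hk⟩ := (Finite.injective_iff_surjective.1 hinj) ⟨n, hn⟩
    have hk' : (k : G)⁻¹ * (f * k * f) = n := congrArg Subtype.val hk
    rw [← hk']
    calc f * ((k : G)⁻¹ * (f * k * f)) * f = f * (k : G)⁻¹ * f * k * (f * f) := by group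
      _ = _ := by
        rw [hff, mul_one]
        have hfinv : f⁻¹ = f := inv_eq_of_mul_eq_one_right hff
        simp [mul_assoc, hfinv]
  rw [eq_bot_iff]
  intro n hn
  rw [mem_bot]
  have e1 := key t (IsConj.refl t) (E.t_mem_cx ht) h1 n hn
  have e2 := key _ hA E.hom_a₀_mem h2
  have e3 := key _ hA1 (E.mem_cx M.a₁_comm_c₀) h3
  have hcom : E.hom M.a₁ * E.hom M.a₀ = t := by
    rw [← map_mul, M.a_comm_a M.isA_a₁ M.isA_a₀, map_mul, hprod]
  have : t * n * t = n := by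
    calc t * n * t = (E.hom M.a₀ * E.hom M.a₁) * n * (E.hom M.a₁ * E.hom M.a₀) := by rw [hprod, hcom]
      _ = E.hom M.a₀ * (E.hom M.a₁ * n * E.hom M.a₁) * E.hom M.a₀ := by group
      _ = n := by rw [e3 n hn, e2 _ (N.inv_mem hn), inv_inv]
  rw [this] at e1
  have h4 : n ^ 2 = 1 := by rw [sq]; nth_rw 2 [e1]; rw [mul_inv_cancel]
  have h5 : orderOf n ∣ Nat.card N := by
    have h' := orderOf_dvd_natCard (⟨n, hn⟩ : N); rwa [Subgroup.orderOf_mk] at h'
  exact orderOf_eq_one_iff.1 (Nat.eq_one_of_dvd_coprimes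
    (Nat.coprime_two_left.2 hodd) (orderOf_dvd_of_pow_eq_one h4) h5)

/-- If the centre is isolated in the centraliser of `c₀`, that centraliser is the common one. -/
lemma cx_eq_of_isolated (hiso : ∀ k ∈ E.cx, k * t * k⁻¹ ∈ E.sx → k * t * k⁻¹ = t) : E.cx = E.sx := by
  obtain ⟨P, hP⟩ := E.exists_sylow_cx ht
  let t' : ↥E.cx := ⟨t, E.t_mem_cx ht⟩
  have ht' : orderOf t' = 2 := by rw [Subgroup.orderOf_mk]; exact ht
  obtain ⟨N, hN, hodd, hc⟩ := Cfsg.Agent.S0215.result P t' ht' ((hP t').2 (E.t_mem_sx ht))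
    (fun k hk => Subtype.ext (hiso k k.2 ((hP _).1 hk)))
  have htt : t * t = 1 := (two_iff.1 ht).1
  have hbot : N.map E.cx.subtype = ⊥ := by
    refine E.odd_trivial ht hG (map_subtype_le N) ?_ ?_ ?_
    · rwa [card_map_of_injective (subtype_injective _)]
    · rintro _ ⟨k, hk, rfl⟩
      refine ⟨t' * k * t'⁻¹, hN.conj_mem k hk t', ?_⟩
      simp [t', inv_eq_of_mul_eq_one_right htt]
    · rintro _ ⟨k, hk, rfl⟩
      refine ⟨⟨_, E.hom_a₀_mem⟩ * k * ⟨_, E.hom_a₀_mem⟩⁻¹, hN.conj_mem k hk _, ?_⟩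
      simp [inv_eq_of_mul_eq_one_right (two_iff.1 (E.two_a₀ ht)).1]
  rw [map_eq_bot_iff_of_injective _ (subtype_injective _)] at hbot
  refine le_antisymm (fun k hk => ?_) E.sx_le
  have h := hc ⟨k, hk⟩
  rw [hbot, mem_bot] at h
  have h' : t * k * t⁻¹ * k⁻¹ = 1 := congrArg Subtype.val h
  rw [mul_inv_eq_one, mul_inv_eq_iff_eq_mul] at h'
  rw [sx, ← E.inf_cent]
  exact ⟨mem_centralizer_singleton_iff.2 h'.symm, hk⟩

omit [IsSimpleGroup G] hG in
lemma pairs_eq {P Q : M → Prop} (hP : ∀ m, IsConj t (E.hom m) ↔ P m)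
    (hQ : ∀ m, IsConj (E.hom M.c₀) (E.hom m) ↔ Q m) :
    Nat.card {p : G × G // IsConj t p.1 ∧ IsConj (E.hom M.c₀) p.2 ∧ t ∈ zpowers (p.1 * p.2)} =
      Nat.card {a : M × M // P a.1 ∧ Q a.2 ∧ M.z ∈ zpowers (a.1 * a.2)} := by
  symm
  let f : {a : M × M // P a.1 ∧ Q a.2 ∧ M.z ∈ zpowers (a.1 * a.2)} →
      {p : G × G // IsConj t p.1 ∧ IsConj (E.hom M.c₀) p.2 ∧ t ∈ zpowers (p.1 * p.2)} := fun a =>
    ⟨(E.hom a.1.1, E.hom a.1.2), (hP _).2 a.2.1, (hQ _).2 a.2.2.1, by
      have h := mem_map_of_mem E.hom a.2.2.2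
      rwa [MonoidHom.map_zpowers, E.hom_z ht, map_mul] at h⟩
  refine Nat.card_congr (Equiv.ofBijective f ⟨fun a b h => ?_, ?_⟩)
  · have h' := congrArg Subtype.val h
    exact Subtype.ext (Prod.ext (E.inj (congrArg Prod.fst h')) (E.inj (congrArg Prod.snd h')))
  · rintro ⟨⟨u, v⟩, hu, hv, hz⟩
    obtain ⟨hu', hv'⟩ := H73.Janko.mem_centralizer_of_mem_zpowers (two_iff.1 (two_of_isConj hu ht)).1
      (two_iff.1 (two_of_isConj hv (E.two_c₀ ht))).1 (two_iff.1 ht).1 hz
    obtain ⟨a, rfl⟩ := E.mem_iff.1 (mem_centralizer_singleton_iff.1 hu')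
    obtain ⟨b, rfl⟩ := E.mem_iff.1 (mem_centralizer_singleton_iff.1 hv')
    refine ⟨⟨(a, b), (hP a).1 hu, (hQ b).1 hv, ?_⟩, rfl⟩
    show M.z ∈ zpowers (a * b)
    refine (mem_map_iff_mem E.inj).1 ?_
    rwa [MonoidHom.map_zpowers, E.hom_z ht, map_mul]

/-- The class of 24 consists of conjugates of the centre. -/
theorem isConj_b₀ : IsConj t (E.hom M.b₀) := by
  classical
  by_contra hb
  have hP : ∀ m, IsConj t (E.hom m) ↔ (m = M.z ∨ M.IsA m) := fun m => by
    rw [E.isConj_t_iff ht hG]; tauto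
  have hQ : ∀ m, IsConj (E.hom M.c₀) (E.hom m) ↔ (M.IsB m ∨ M.IsC m) := fun m => by
    rw [E.isConj_x_iff ht hG]; tauto
  -- the centre is isolated in the centraliser of `c₀`
  have hiso : ∀ k ∈ E.cx, k * t * k⁻¹ ∈ E.sx → k * t * k⁻¹ = t := by
    intro k hk hks
    rcases E.isConj_sx ht hG hks (isConj_iff.2 ⟨k, rfl⟩) with h | h | h
    · exact h
    all_goals
      exfalso
      obtain ⟨a, haA, hka⟩ : ∃ a, M.IsA a ∧ k * t * k⁻¹ = E.hom a := by
        first | exact ⟨_, M.isA_a₀, h⟩ | exact ⟨_, M.isA_a₁, h⟩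
      let W : Set G := E.hom '' {w | w = M.z ∨ M.IsA w}
      let e : G → G := fun g => k * g * k⁻¹
      have hW : ∀ g, g ∈ W ↔ IsConj t g ∧ g * t = t * g := by
        intro g
        constructor
        · rintro ⟨w, hw, rfl⟩; exact ⟨(hP w).2 hw, E.comm w⟩
        · rintro ⟨h1, h2⟩
          obtain ⟨w, rfl⟩ := E.mem_iff.1 h2
          exact ⟨w, (hP w).1 h1, rfl⟩
      have hsub : W ⊆ e '' W := by
        rintro _ ⟨w, hw, rfl⟩
        refine ⟨k⁻¹ * E.hom w * k, (hW _).2 ⟨((hP w).2 hw).trans (isConj_iff.2 ⟨k⁻¹, by group⟩), ?_⟩, by simp [e, mul_assoc]⟩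
        have hwa : E.hom w * (k * t * k⁻¹) = (k * t * k⁻¹) * E.hom w := by
          rw [hka]
          refine E.comm_hom.2 ?_
          rcases hw with rfl | hw
          · exact (M.comm_z a).symm
          · exact M.a_comm_a hw haA
        calc k⁻¹ * E.hom w * k * t = k⁻¹ * (E.hom w * (k * t * k⁻¹)) * k := by group
          _ = t * (k⁻¹ * E.hom w * k) := by rw [hwa]; group
      have heq : W = e '' W := Set.eq_of_subset_of_ncard_le hsub (Set.ncard_image_le (Set.toFinite _))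
        (Set.toFinite _)
      obtain ⟨w, hw, hwz⟩ := M.exists_a_comm_z
      obtain ⟨w', hw', hwe⟩ : e (E.hom w) ∈ W := by
        rw [heq]; exact ⟨_, ⟨w, Or.inr hw, rfl⟩, rfl⟩
      have hkc : k * E.hom M.c₀ * k⁻¹ = E.hom M.c₀ := by
        rw [mem_centralizer_singleton_iff.1 hk, mul_inv_cancel_right]
      have hcalc : E.hom (w' * M.c₀ * w'⁻¹ * M.c₀⁻¹) = E.hom a := by
        rw [← hka]
        suffices h1 : E.hom (w' * M.c₀ * w'⁻¹ * M.c₀⁻¹) = k * E.hom M.z * k⁻¹ by rwa [E.hom_z ht] at h1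
        rw [← hwz]
        simp only [map_mul, map_inv, hwe, e]
        conv_lhs => rw [← hkc]
        group
      have hne1 : a ≠ 1 := ((M.invol_iff a).2 (Or.inr (Or.inl haA))).2
      have hnez : a ≠ M.z := fun he => ((M.disjoint_classes a).1 he).1 haA
      rcases hw' with rfl | hw'
      · have : M.z * M.c₀ * M.z⁻¹ * M.c₀⁻¹ = 1 := by rw [← M.comm_z]; group
        rw [this] at hcalc
        exact hne1 (E.inj hcalc).symm
      · rcases M.a_comm_c₀ hw' with h' | h' <;> rw [h'] at hcalc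
        · exact hne1 (E.inj hcalc).symm
        · exact hnez (E.inj hcalc).symm
  have hK := E.cx_eq_of_isolated ht hG hiso
  have h1 := E.pairs_eq ht hP hQ
  rw [M.count_z_split] at h1
  have h2 : Nat.card {p : G × G // IsConj t p.1 ∧ IsConj (E.hom M.c₀) p.2 ∧ E.hom M.c₀ ∈ zpowers (p.1 * p.2)} = 3 := by
    refine Eq.trans ?_ M.count_c_split
    symm
    let f : {a : M × M // ((a.1 = M.z ∨ M.IsA a.1) ∧ a.1 * M.c₀ = M.c₀ * a.1) ∧
        ((M.IsB a.2 ∨ M.IsC a.2) ∧ a.2 * M.c₀ = M.c₀ * a.2) ∧ M.c₀ ∈ zpowers (a.1 * a.2)} →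
        {p : G × G // IsConj t p.1 ∧ IsConj (E.hom M.c₀) p.2 ∧ E.hom M.c₀ ∈ zpowers (p.1 * p.2)} := fun a =>
      ⟨(E.hom a.1.1, E.hom a.1.2), (hP _).2 a.2.1.1, (hQ _).2 a.2.2.1.1, by
        have h := mem_map_of_mem E.hom a.2.2.2
        rwa [MonoidHom.map_zpowers, map_mul] at h⟩
    refine Nat.card_congr (Equiv.ofBijective f ⟨fun a b h => ?_, ?_⟩)
    · have h' := congrArg Subtype.val h
      exact Subtype.ext (Prod.ext (E.inj (congrArg Prod.fst h')) (E.inj (congrArg Prod.snd h')))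
    · rintro ⟨⟨u, v⟩, hu, hv, hz⟩
      obtain ⟨hu', hv'⟩ := H73.Janko.mem_centralizer_of_mem_zpowers (two_iff.1 (two_of_isConj hu ht)).1
        (two_iff.1 (two_of_isConj hv (E.two_c₀ ht))).1 (two_iff.1 (E.two_c₀ ht)).1 hz
      change u ∈ E.cx at hu'
      change v ∈ E.cx at hv'
      rw [hK] at hu' hv'
      obtain ⟨a, ha, rfl⟩ := hu'
      obtain ⟨b, hb', rfl⟩ := hv'
      refine ⟨⟨(a, b), ⟨(hP a).1 hu, mem_centralizer_singleton_iff.1 ha⟩,
        ⟨(hQ b).1 hv, mem_centralizer_singleton_iff.1 hb'⟩, ?_⟩, rfl⟩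
      show M.c₀ ∈ zpowers (a * b)
      refine (mem_map_iff_mem E.inj).1 ?_
      rwa [MonoidHom.map_zpowers, map_mul]
  have hTF := Cfsg.Agent.S0213.result t (E.hom M.c₀) ht (E.two_c₀ ht) (E.not_isConj_c ht)
    (fun v hv => E.class_cases ht hG hv)
  rw [h1, h2, E.finite_cent, show Nat.card ↥(centralizer ({E.hom M.c₀} : Set G)) = 16 from
    (congrArg (fun K : Subgroup G => Nat.card K) hK).trans E.card_sx] at hTF
  norm_num at hTF
  have h7 : Nat.card {v : G // IsConj t v} = 7 := by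
    have h := card_class t
    rw [E.finite_cent, hTF] at h
    omega
  let act : G →* Equiv.Perm {v : G // IsConj t v} :=
  { toFun := fun g => ⟨fun v => ⟨g * v.1 * g⁻¹, v.2.trans (isConj_iff.2 ⟨g, rfl⟩)⟩,
      fun v => ⟨g⁻¹ * v.1 * g, v.2.trans (isConj_iff.2 ⟨g⁻¹, by group⟩)⟩,
      fun v => Subtype.ext (by simp [mul_assoc]), fun v => Subtype.ext (by simp [mul_assoc])⟩
    map_one' := by ext v; simp
    map_mul' := fun a b => by ext v; simp [mul_assoc] }
  rcases (MonoidHom.normal_ker act).eq_bot_or_eq_top with hk | hk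
  · have h := card_dvd_of_injective act (act.ker_eq_bot_iff.1 hk)
    rw [Nat.card_perm, h7, hTF] at h
    norm_num [Nat.factorial] at h
  · have hcent : centralizer ({t} : Set G) = ⊤ := by
      refine eq_top_iff.2 fun g _ => mem_centralizer_singleton_iff.2 ?_
      have h := congrArg (fun p : Equiv.Perm {v : G // IsConj t v} => (p ⟨t, IsConj.refl t⟩).1)
        (MonoidHom.mem_ker.1 (hk ▸ mem_top g : g ∈ act.ker))
      exact mul_inv_eq_iff_eq_mul.1 h
    have := E.finite_cent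
    rw [hcent, card_top, hTF] at this
    omega

end Emb

end Cfsg.Agent.H86.MTwelve
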