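import Cfsg.Agent.H86.MTwelve.Facts
import Cfsg.Agent.Golay.Transport
import Cfsg.Prelude.Def_SporadicB

/-!
Every centraliser of a 2-central involution of the Mathieu group of degree 12 is the group of 192 labels.
-/

set_option autoImplicit false

namespace Cfsg.Agent.H86.MTwelve

open Cfsg Cfsg.Agent.Golay
open scoped Pointwise

/-- An embedding of the group of labels onto the centraliser of `x`. -/
structure Emb {G : Type*} [Group G] (x : G) where
  /-- The embedding. -/
  hom : M →* G
  inj : Function.Injective hom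
  range_eq : hom.range = Subgroup.centralizer ({x} : Set G)

namespace Emb

variable {G : Type*} [Group G] {x : G}

lemma mem_iff (E : Emb x) {g : G} : g * x = x * g ↔ ∃ m : M, E.hom m = g := by
  rw [← MonoidHom.mem_range, E.range_eq, Subgroup.mem_centralizer_singleton_iff]

lemma comm (E : Emb x) (m : M) : E.hom m * x = x * E.hom m := E.mem_iff.2 ⟨m, rfl⟩

lemma map_z (E : Emb x) (hx : x ≠ 1) : E.hom M.z = x := by
  obtain ⟨m, hm⟩ := E.mem_iff.1 (rfl : x * x = x * x)
  rcases M.center_cases (m := m) (fun g => E.inj (by rw [map_mul, map_mul, hm]; exact E.comm g)) with h | h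
  · rw [h, map_one] at hm; exact absurd hm.symm hx
  · rw [← h, hm]

/-- Conjugate embedding. -/
noncomputable def conj (E : Emb x) (g : G) : Emb (g * x * g⁻¹) where
  hom := (MulAut.conj g).toMonoidHom.comp E.hom
  inj := (MulAut.conj g).injective.comp E.inj
  range_eq := by
    ext y
    rw [MonoidHom.mem_range, Subgroup.mem_centralizer_singleton_iff]
    constructor
    · rintro ⟨m, rfl⟩
      have h := E.comm m
      calc g * E.hom m * g⁻¹ * (g * x * g⁻¹) = g * (E.hom m * x) * g⁻¹ := by group
        _ = g * x * g⁻¹ * (g * E.hom m * g⁻¹) := by rw [h]; group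
    · intro hy
      obtain ⟨m, hm⟩ := E.mem_iff.1 (show (g⁻¹ * y * g) * x = x * (g⁻¹ * y * g) by
        calc g⁻¹ * y * g * x = g⁻¹ * (y * (g * x * g⁻¹)) * g := by group
          _ = x * (g⁻¹ * y * g) := by rw [hy]; group)
      refine ⟨m, ?_⟩
      show g * E.hom m * g⁻¹ = y
      rw [hm]; group

lemma conj_apply (E : Emb x) (g : G) (m : M) : (E.conj g).hom m = g * E.hom m * g⁻¹ := rfl

end Emb

/-! ### The model inside the Mathieu group -/

lemma model_checks :
    checkChain [squareMask, Data.tetMask] 0 Data.centChain = true ∧ chainCard Data.centChain = 192 ∧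
    ((List.range 192).all fun a => tblImg (tbl a) squareMask == squareMask &&
      tblImg (tbl a) Data.tetMask == Data.tetMask) = true ∧
    ((List.range 24).all fun i => Data.tetMask.testBit i ==
      (squareMask.testBit i && app (tbl Data.zN) i == i)) = true := by
  decide +kernel

lemma rep_mem (a : M) :
    M.rep a ∈ stabGrp [squareMask, Data.tetMask] 0 := by
  refine mem_stabGrp_of_inStab ?_
  have h := M.all_range model_checks.2.2.1 a
  simp only [Bool.and_eq_true] at h
  simp [inStab, fixesMask, (M.row_facts a).1, h.1, h.2, List.all_cons]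

lemma rep_range : M.rep.range = stabGrp [squareMask, Data.tetMask] 0 := by
  refine Subgroup.eq_of_le_of_card_ge ?_ (le_of_eq ?_)
  · rintro σ ⟨a, rfl⟩; exact rep_mem a
  · rw [card_stabGrp model_checks.1, model_checks.2.1,
      ← Nat.card_congr (MonoidHom.ofInjective M.rep_injective).toEquiv, M.card_M]

lemma mem_M12_of_rep (a : M) : M.rep a ∈ Spor.M12 := by
  rw [← stabGrp_squareMask]
  obtain ⟨h1, h2, h3⟩ := rep_mem a
  exact ⟨h1, fun e he => h2 e (by simp_all), h3⟩

/-- The model inside the Mathieu group. -/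
noncomputable def model : M →* ↥Spor.M12 := M.rep.codRestrict Spor.M12 mem_M12_of_rep

lemma model_injective : Function.Injective model := fun a b h =>
  M.rep_injective (congrArg (fun v : ↥Spor.M12 => (v : Equiv.Perm GolayPt)) h)

lemma mem_tet_iff (p : GolayPt) :
    p ∈ ptSet Data.tetMask ↔ p ∈ ptSet squareMask ∧ M.rep M.z p = p := by
  rw [mem_ptSet, mem_ptSet]
  have h := List.all_eq_true.1 model_checks.2.2.2 (idx p) (List.mem_range.2 (idx_lt p))
  rw [beq_iff_eq] at h
  rw [h, Bool.and_eq_true, beq_iff_eq, ← M.z_val, ← idx_mkPerm (M.tbl_valid M.z)]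
  exact and_congr_right fun _ => ⟨fun hh => idx_injective hh, fun hh => congrArg idx hh⟩

lemma model_range : model.range = Subgroup.centralizer ({model M.z} : Set ↥Spor.M12) := by
  refine le_antisymm ?_ ?_
  · rintro _ ⟨a, rfl⟩
    rw [Subgroup.mem_centralizer_singleton_iff, ← map_mul, M.comm_z, map_mul]
  · intro g hg
    rw [Subgroup.mem_centralizer_singleton_iff] at hg
    have hg' : (g : Equiv.Perm GolayPt) * M.rep M.z = M.rep M.z * (g : Equiv.Perm GolayPt) :=
      congrArg (fun v : ↥Spor.M12 => (v : Equiv.Perm GolayPt)) hg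
    have hS : (g : Equiv.Perm GolayPt) ∈ stabGrp [squareMask] 0 := by
      rw [stabGrp_squareMask]; exact g.2
    obtain ⟨h1, h2, h3⟩ := hS
    have hsq := h2 squareMask (List.mem_singleton.2 rfl)
    have hmem : (g : Equiv.Perm GolayPt) ∈ stabGrp [squareMask, Data.tetMask] 0 := by
      refine ⟨h1, ?_, h3⟩
      intro e he
      rcases List.mem_cons.1 he with rfl | he
      · exact hsq
      rw [List.mem_singleton.1 he]
      refine smul_eq_of_image (fun p hp => ?_) le_rfl
      rw [mem_tet_iff] at hp ⊢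
      refine ⟨?_, ?_⟩
      · rw [← hsq]
        exact Finset.smul_mem_smul_finset hp.1
      · have := congrArg (fun σ : Equiv.Perm GolayPt => σ p) hg'
        simp only [Equiv.Perm.mul_apply, hp.2] at this
        exact this.symm
    rw [← rep_range] at hmem
    obtain ⟨a, ha⟩ := hmem
    exact ⟨a, Subtype.ext ha⟩

/-- A 2-central involution of the Mathieu group has centraliser the model. -/
theorem exists_emb_mathieu (u : ↥Spor.M12) (hu : IsTwoCentralInvolution u) : Nonempty (Emb u) := by
  haveI : Fact (Nat.Prime 2) := ⟨Nat.prime_two⟩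
  obtain ⟨hu2, P, huP, hcomm⟩ := hu
  let E₀ : Emb (model M.z) := ⟨model, model_injective, model_range⟩
  have hfac : (95040 : ℕ).factorization 2 = 6 := by
    rw [Nat.factorization_def _ Nat.prime_two, show (95040 : ℕ) = 2 ^ 6 * 1485 by norm_num,
      padicValNat.mul (by norm_num) (by norm_num), padicValNat.prime_pow,
      padicValNat.eq_zero_of_not_dvd (by norm_num : ¬ 2 ∣ 1485)]
  have hcard : Nat.card (M.T.map model) = 2 ^ (Nat.card ↥Spor.M12).factorization 2 := by
    rw [Subgroup.card_map_of_injective model_injective, M.card_T, card_spor_M12, hfac]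
    norm_num
  let P₀ := Sylow.ofCard (M.T.map model) hcard
  obtain ⟨g, hg⟩ := MulAction.exists_smul_eq (↥Spor.M12) P P₀
  have hsm : ∀ y : ↥Spor.M12, g * y * g⁻¹ ∈ M.T.map model ↔ y ∈ P := by
    intro y
    have h : g * y * g⁻¹ ∈ (g • P : Sylow 2 ↥Spor.M12) ↔ y ∈ P := by
      rw [Sylow.smul_def]
      exact Subgroup.smul_mem_pointwise_smul_iff (a := MulAut.conj g)
    rw [hg] at h
    exact h
  obtain ⟨m, hm, hme⟩ := (hsm u).2 huP
  have hne : u ≠ 1 := fun h => by rw [h, orderOf_one] at hu2; exact absurd hu2 (by norm_num)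
  have hz : m = M.z := by
    refine (M.T_center hm fun x hx => model_injective ?_).resolve_left fun h => ?_
    · rw [map_mul, map_mul, hme]
      have hx' : g * (g⁻¹ * model x * g) * g⁻¹ ∈ M.T.map model := by
        rw [show g * (g⁻¹ * model x * g) * g⁻¹ = model x by group]
        exact Subgroup.mem_map_of_mem _ hx
      have h := hcomm _ ((hsm _).1 hx')
      calc model x * (g * u * g⁻¹) = g * (g⁻¹ * model x * g * u) * g⁻¹ := by group
        _ = g * u * g⁻¹ * model x := by rw [h]; group
    · rw [h, map_one] at hme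
      exact hne (conj_eq_one_iff.1 hme.symm)
  have hx : g⁻¹ * model M.z * (g⁻¹)⁻¹ = u := by rw [← hz, hme]; group
  exact ⟨hx ▸ E₀.conj g⁻¹⟩

/-- The hypothesis on `t` gives an embedding. -/
theorem exists_emb {G : Type*} [Group G] (u : ↥Spor.M12) (hu : IsTwoCentralInvolution u) (t : G)
    (e : ↥(Subgroup.centralizer ({t} : Set G)) ≃* ↥(Subgroup.centralizer ({u} : Set ↥Spor.M12))) :
    Nonempty (Emb t) := by
  obtain ⟨E⟩ := exists_emb_mathieu u hu
  let f : M →* ↥(Subgroup.centralizer ({u} : Set ↥Spor.M12)) :=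
    E.hom.codRestrict _ fun m => E.range_eq ▸ ⟨m, rfl⟩
  refine ⟨⟨(Subgroup.centralizer ({t} : Set G)).subtype.comp (e.symm.toMonoidHom.comp f),
    (Subgroup.subtype_injective _).comp (e.symm.injective.comp fun a b h => E.inj (congrArg Subtype.val h)),
    ?_⟩⟩
  refine le_antisymm ?_ fun y hy => ?_
  · rintro _ ⟨m, rfl⟩; exact (e.symm (f m)).2
  · have h2 : (e ⟨y, hy⟩ : ↥Spor.M12) ∈ E.hom.range := by
      rw [E.range_eq]; exact (e ⟨y, hy⟩).2
    obtain ⟨m, hm⟩ := h2
    refine ⟨m, ?_⟩
    have hfm : f m = e ⟨y, hy⟩ := Subtype.ext hm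
    show ((e.symm (f m)) : G) = y
    rw [hfm, MulEquiv.symm_apply_apply]

end Cfsg.Agent.H86.MTwelve
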